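import Mathlib
import Groth.Agent.Lib.Helper9.ValCritGlue

/-!
# Algebra for the refined valuative criterion (helper2)

* `exists_arc_alg`: a valuation ring through a prescribed specialization whose residue field
  contains a prescribed extension of the residue field of the special point;
* the splitting of an extension of a composite valuation ring along the prime of the composite.
-/

set_option autoImplicit false
set_option backward.isDefEq.respectTransparency.types false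
set_option synthInstance.maxHeartbeats 400000
set_option maxHeartbeats 4000000
set_option linter.style.haveILetI false
set_option linter.unusedSectionVars false
set_option linter.unusedVariables false
set_option linter.unusedSimpArgs false
set_option linter.unnecessarySimpa false

universe u

open IsLocalRing

namespace Groth.Agent.Helper2.RefVC

open Groth.Agent.Lib.Helper9.ValCritGlue

section Arc

/-- A valuation ring dominating the image of a local ring `O` in a field `F`, whose residue field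
receives a prescribed field `K'` under `O`. -/
theorem exists_arc_alg {O F K' : Type u} [CommRing O] [IsLocalRing O] [Field F] [Field K']
    (a : O →+* F) (b : O →+* K') (hb : ∀ x ∈ maximalIdeal O, b x = 0) :
    ∃ (K₁ : Type u) (_ : Field K₁) (ρ : F →+* K₁) (R₁ : ValuationSubring K₁)
      (c : O →+* ↥R₁) (β : K' →+* ResidueField ↥R₁),
      (∀ o, ((c o : ↥R₁) : K₁) = ρ (a o)) ∧ IsLocalHom c ∧
      (∀ o, β (b o) = residue ↥R₁ (c o)) := by
  classical
  let P := MvPolynomial K' O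
  let PF := MvPolynomial K' F
  let K₁ := FractionRing PF
  let θ : P →+* K' := MvPolynomial.eval₂Hom b id
  have hθX : ∀ ω : K', θ (MvPolynomial.X ω) = ω := fun ω => MvPolynomial.eval₂Hom_X' b id ω
  have hθC : ∀ o : O, θ (MvPolynomial.C o) = b o := fun o => MvPolynomial.eval₂Hom_C b id o
  let n : Ideal P := RingHom.ker θ
  haveI hn : n.IsPrime := RingHom.ker_isPrime θ
  let g : P →+* K₁ := (algebraMap PF K₁).comp (MvPolynomial.map a)
  have hker : ∀ y : P, MvPolynomial.map a y = 0 → θ y = 0 := by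
    intro y hy
    show MvPolynomial.eval₂Hom b id y = 0
    rw [MvPolynomial.coe_eval₂Hom, MvPolynomial.eval₂_eq]
    apply Finset.sum_eq_zero
    intro d _
    have h1 : a (MvPolynomial.coeff d y) = 0 := by
      rw [← MvPolynomial.coeff_map, hy, MvPolynomial.coeff_zero]
    have h2 : MvPolynomial.coeff d y ∈ maximalIdeal O := by
      rw [mem_maximalIdeal, mem_nonunits_iff]
      intro hu
      have := hu.map a
      rw [h1] at this
      exact not_isUnit_zero this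
    rw [hb _ h2, zero_mul]
  have hg : ∀ y : n.primeCompl, IsUnit (g y) := by
    intro y
    rw [isUnit_iff_ne_zero]
    intro h0
    have hy : (y : P) ∉ n := y.2
    apply hy
    show (y : P) ∈ RingHom.ker θ
    rw [RingHom.mem_ker]
    apply hker
    have h1 : algebraMap PF K₁ (MvPolynomial.map a (y : P)) = 0 := h0
    exact (IsFractionRing.injective PF K₁) (by rw [h1, map_zero])
  let 𝓛 := Localization.AtPrime n
  let gL : 𝓛 →+* K₁ := IsLocalization.lift (M := n.primeCompl) (S := 𝓛) hg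
  have hgL : ∀ p : P, gL (algebraMap P 𝓛 p) = g p := fun p => IsLocalization.lift_eq hg p
  obtain ⟨R₁, hmem, hloc⟩ := IsLocalRing.exists_factor_valuationRing gL
  let gR : 𝓛 →+* ↥R₁ := gL.codRestrict R₁ (fun x => hmem x)
  have hgRloc : IsLocalHom gR := hloc
  let cP : P →+* ↥R₁ := gR.comp (algebraMap P 𝓛)
  let c : O →+* ↥R₁ := cP.comp MvPolynomial.C
  let ρ : F →+* K₁ := (algebraMap PF K₁).comp MvPolynomial.C
  have hcP : ∀ p : P, ((cP p : ↥R₁) : K₁) = g p := fun p => hgL p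
  have hnm : ∀ p : P, p ∈ n → cP p ∈ maximalIdeal ↥R₁ := by
    intro p hp
    rw [mem_maximalIdeal, mem_nonunits_iff]
    intro hu
    have h1 : IsUnit (algebraMap P 𝓛 p) := hgRloc.map_nonunit _ hu
    rw [IsLocalization.AtPrime.isUnit_to_map_iff 𝓛 n] at h1
    exact h1 hp
  let γ : P →+* ResidueField ↥R₁ := (residue ↥R₁).comp cP
  have hγ : RingHom.ker θ ≤ RingHom.ker γ := by
    intro p hp
    rw [RingHom.mem_ker]
    exact (residue_eq_zero_iff _).2 (hnm p hp)
  let β : K' →+* ResidueField ↥R₁ :=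
    θ.liftOfRightInverse (fun ω => MvPolynomial.X ω) hθX ⟨γ, hγ⟩
  have hβ : ∀ p : P, β (θ p) = γ p := fun p =>
    θ.liftOfRightInverse_comp_apply (fun ω => MvPolynomial.X ω) hθX ⟨γ, hγ⟩ p
  refine ⟨K₁, inferInstance, ρ, R₁, c, β, ?_, ?_, ?_⟩
  · intro o
    show ((cP (MvPolynomial.C o) : ↥R₁) : K₁) = _
    rw [hcP]
    show algebraMap PF K₁ (MvPolynomial.map a (MvPolynomial.C o)) =
      algebraMap PF K₁ (MvPolynomial.C (a o))
    rw [MvPolynomial.map_C]
  · constructor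
    intro o hu
    by_contra hno
    have h1 : o ∈ maximalIdeal O := (mem_maximalIdeal o).2 hno
    have h2 : MvPolynomial.C o ∈ n := by
      show MvPolynomial.C o ∈ RingHom.ker θ
      rw [RingHom.mem_ker, hθC, hb _ h1]
    have h3 := hnm _ h2
    rw [mem_maximalIdeal, mem_nonunits_iff] at h3
    exact h3 hu
  · intro o
    rw [← hθC, hβ]
    rfl

end Arc

section Split

variable {K₁ : Type u} [Field K₁] (R₁ : ValuationSubring K₁)
  (Vt : ValuationSubring (ResidueField ↥R₁))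
  {K' : Type u} (A' : Type u) [Field K'] [CommRing A'] [IsDomain A'] [ValuationRing A']
  [Algebra A' K'] [IsFractionRing A' K'] (φ : ↥(compV R₁ Vt) →+* A') (ψ : K₁ →+* K')
  (comm : (algebraMap A' K').comp φ = ψ.comp (algebraMap ↥(compV R₁ Vt) K₁))
  (hloc : IsLocalHom φ)

include comm in
theorem hcomm (r : ↥(compV R₁ Vt)) : algebraMap A' K' (φ r) = ψ (r : K₁) :=
  RingHom.congr_fun comm r

/-- the overring of `A'` generated by the image of `R₁` -/
def splitB : ValuationSubring K' where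
  toSubring :=
    { carrier := {x | ∃ s : ↥(compV R₁ Vt), IsUnit (compι R₁ Vt s) ∧
        ∃ a : A', algebraMap A' K' a = x * ψ (s : K₁)}
      mul_mem' := by
        rintro x y ⟨s, hs, a, ha⟩ ⟨s', hs', a', ha'⟩
        refine ⟨s * s', by rw [map_mul]; exact hs.mul hs', a * a', ?_⟩
        rw [map_mul, ha, ha',
          show ((s * s' : ↥(compV R₁ Vt)) : K₁) = (s : K₁) * (s' : K₁) from rfl, map_mul]
        ring
      one_mem' := ⟨1, by rw [map_one]; exact isUnit_one, 1, by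
        rw [map_one, show ((1 : ↥(compV R₁ Vt)) : K₁) = 1 from rfl, map_one, mul_one]⟩
      add_mem' := by
        rintro x y ⟨s, hs, a, ha⟩ ⟨s', hs', a', ha'⟩
        refine ⟨s * s', by rw [map_mul]; exact hs.mul hs', a * φ s' + a' * φ s, ?_⟩
        rw [map_add, map_mul, map_mul, ha, ha', hcomm R₁ Vt A' φ ψ comm, hcomm R₁ Vt A' φ ψ comm,
          show ((s * s' : ↥(compV R₁ Vt)) : K₁) = (s : K₁) * (s' : K₁) from rfl, map_mul]
        ring
      zero_mem' := ⟨1, by rw [map_one]; exact isUnit_one, 0, by rw [map_zero, zero_mul]⟩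
      neg_mem' := by
        rintro x ⟨s, hs, a, ha⟩
        exact ⟨s, hs, -a, by rw [map_neg, ha, neg_mul]⟩ }
  mem_or_inv_mem' := by
    intro x
    rcases ValuationRing.isInteger_or_isInteger A' x with h | h
    · obtain ⟨a, ha⟩ := h
      left
      exact ⟨1, by rw [map_one]; exact isUnit_one, a, by
        rw [show ((1 : ↥(compV R₁ Vt)) : K₁) = 1 from rfl, map_one, mul_one]; exact ha⟩
    · obtain ⟨a, ha⟩ := h
      right
      exact ⟨1, by rw [map_one]; exact isUnit_one, a, by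
        rw [show ((1 : ↥(compV R₁ Vt)) : K₁) = 1 from rfl, map_one, mul_one]; exact ha⟩

theorem mem_splitB {x : K'} : x ∈ splitB R₁ Vt A' φ ψ comm ↔
    ∃ s : ↥(compV R₁ Vt), IsUnit (compι R₁ Vt s) ∧
      ∃ a : A', algebraMap A' K' a = x * ψ (s : K₁) := Iff.rfl

theorem algebraMap_mem_splitB (a : A') : algebraMap A' K' a ∈ splitB R₁ Vt A' φ ψ comm :=
  ⟨1, by rw [map_one]; exact isUnit_one, a, by
    rw [show ((1 : ↥(compV R₁ Vt)) : K₁) = 1 from rfl, map_one, mul_one]⟩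

theorem psi_mem_splitB (r₁ : ↥R₁) : ψ (r₁ : K₁) ∈ splitB R₁ Vt A' φ ψ comm := by
  by_cases hr : (r₁ : K₁) ∈ compV R₁ Vt
  · refine ⟨1, by rw [map_one]; exact isUnit_one, φ ⟨_, hr⟩, ?_⟩
    rw [hcomm R₁ Vt A' φ ψ comm, show ((1 : ↥(compV R₁ Vt)) : K₁) = 1 from rfl, map_one, mul_one]
  · have hinv : (r₁ : K₁)⁻¹ ∈ compV R₁ Vt :=
      ((compV R₁ Vt).mem_or_inv_mem _).resolve_left hr
    have h0 : (r₁ : K₁) ≠ 0 := fun h => hr (h ▸ (compV R₁ Vt).zero_mem)
    refine ⟨⟨_, hinv⟩, ?_, 1, ?_⟩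
    · refine ⟨⟨compι R₁ Vt ⟨_, hinv⟩, r₁, ?_, ?_⟩, rfl⟩
      · apply Subtype.ext
        show (r₁ : K₁)⁻¹ * (r₁ : K₁) = 1
        exact inv_mul_cancel₀ h0
      · apply Subtype.ext
        show (r₁ : K₁) * (r₁ : K₁)⁻¹ = 1
        exact mul_inv_cancel₀ h0
    · rw [map_one, ← map_mul]
      show 1 = ψ ((r₁ : K₁) * (r₁ : K₁)⁻¹)
      rw [mul_inv_cancel₀ h0, map_one]

/-- the map `R₁ → B` -/
def cB : ↥R₁ →+* ↥(splitB R₁ Vt A' φ ψ comm) :=
  (ψ.comp R₁.subtype).codRestrict (splitB R₁ Vt A' φ ψ comm) (psi_mem_splitB R₁ Vt A' φ ψ comm)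

/-- the map `A' → B` -/
def ιA : A' →+* ↥(splitB R₁ Vt A' φ ψ comm) :=
  (algebraMap A' K').codRestrict (splitB R₁ Vt A' φ ψ comm)
    (algebraMap_mem_splitB R₁ Vt A' φ ψ comm)

theorem cB_coe (r₁ : ↥R₁) : ((cB R₁ Vt A' φ ψ comm r₁ : ↥(splitB R₁ Vt A' φ ψ comm)) : K') =
    ψ (r₁ : K₁) := rfl

theorem ιA_coe (a : A') : ((ιA R₁ Vt A' φ ψ comm a : ↥(splitB R₁ Vt A' φ ψ comm)) : K') =
    algebraMap A' K' a := rfl

theorem cB_compι : (cB R₁ Vt A' φ ψ comm).comp (compι R₁ Vt) = (ιA R₁ Vt A' φ ψ comm).comp φ := by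
  ext r
  exact (hcomm R₁ Vt A' φ ψ comm r).symm

include hloc in
theorem isLocalHom_cB : IsLocalHom (cB R₁ Vt A' φ ψ comm) := by
  constructor
  intro r₁ hu
  by_contra hno
  have hm : r₁ ∈ maximalIdeal ↥R₁ := (mem_maximalIdeal r₁).2 hno
  obtain ⟨y, hy⟩ := hu.exists_right_inv
  have hy' : ψ (r₁ : K₁) * (y : K') = 1 := congrArg Subtype.val hy
  obtain ⟨s, hs, a, ha⟩ := y.2
  obtain ⟨sinv, hsinv⟩ := hs.exists_right_inv
  have hsinv' : (s : K₁) * (sinv : K₁) = 1 := congrArg Subtype.val hsinv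
  have hw₁m : r₁ * sinv ∈ maximalIdeal ↥R₁ := Ideal.mul_mem_right _ _ hm
  have hw : ((r₁ * sinv : ↥R₁) : K₁) ∈ compV R₁ Vt := by
    refine (mem_compV R₁ Vt).2 ⟨(r₁ * sinv).2, ?_⟩
    show residue ↥R₁ (r₁ * sinv) ∈ Vt
    rw [(residue_eq_zero_iff _).2 hw₁m]
    exact Vt.zero_mem
  have h1 : φ ⟨_, hw⟩ * a = 1 := by
    apply IsFractionRing.injective A' K'
    rw [map_mul, hcomm R₁ Vt A' φ ψ comm, ha, map_one]
    show ψ ((r₁ : K₁) * (sinv : K₁)) * ((y : K') * ψ (s : K₁)) = 1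
    have h2 : ψ ((r₁ : K₁) * (sinv : K₁)) * ((y : K') * ψ (s : K₁)) =
        (ψ (r₁ : K₁) * (y : K')) * ψ ((s : K₁) * (sinv : K₁)) := by
      rw [map_mul, map_mul]; ring
    rw [h2, hy', hsinv', map_one, mul_one]
  have h3 : IsUnit (φ ⟨_, hw⟩) := IsUnit.of_mul_eq_one _ h1
  have h4 : IsUnit (⟨_, hw⟩ : ↥(compV R₁ Vt)) := hloc.map_nonunit _ h3
  have h5 : IsUnit (compι R₁ Vt ⟨_, hw⟩) := h4.map (compι R₁ Vt)
  have h6 : compι R₁ Vt ⟨_, hw⟩ = r₁ * sinv := Subtype.ext rfl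
  rw [h6] at h5
  exact (mem_maximalIdeal _).1 hw₁m h5

/-- the image of `A'` in the residue field of `B` -/
noncomputable def splitA : ValuationSubring (ResidueField ↥(splitB R₁ Vt A' φ ψ comm)) where
  toSubring := ((residue ↥(splitB R₁ Vt A' φ ψ comm)).comp (ιA R₁ Vt A' φ ψ comm)).range
  mem_or_inv_mem' := by
    intro z
    obtain ⟨b, rfl⟩ := residue_surjective z
    rcases ValuationRing.isInteger_or_isInteger A' (b : K') with h | h
    · obtain ⟨a, ha⟩ := h
      left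
      refine ⟨a, ?_⟩
      show residue _ (ιA R₁ Vt A' φ ψ comm a) = residue _ b
      congr 1
      exact Subtype.ext ha
    · obtain ⟨a, ha⟩ := h
      by_cases hb : residue ↥(splitB R₁ Vt A' φ ψ comm) b = 0
      · left
        rw [hb]
        exact Subring.zero_mem _
      · right
        have hbu : IsUnit b := by
          by_contra hnu
          exact hb ((residue_eq_zero_iff b).2 ((mem_maximalIdeal b).2 hnu))
        obtain ⟨binv, hbinv⟩ := hbu.exists_right_inv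
        have h1 : (binv : K') = (b : K')⁻¹ := by
          have h2 : (b : K') * (binv : K') = 1 := congrArg Subtype.val hbinv
          exact eq_inv_of_mul_eq_one_right h2
        have h2 : ιA R₁ Vt A' φ ψ comm a = binv := Subtype.ext (ha.trans h1.symm)
        refine ⟨a, ?_⟩
        show residue _ (ιA R₁ Vt A' φ ψ comm a) = (residue _ b)⁻¹
        rw [h2]
        apply eq_inv_of_mul_eq_one_right
        rw [← map_mul, hbinv, map_one]

/-- the projection `A' → A''` -/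
noncomputable def πA : A' →+* ↥(splitA R₁ Vt A' φ ψ comm) :=
  ((residue ↥(splitB R₁ Vt A' φ ψ comm)).comp (ιA R₁ Vt A' φ ψ comm)).codRestrict
    (splitA R₁ Vt A' φ ψ comm) (fun a => ⟨a, rfl⟩)

theorem πA_coe (a : A') : ((πA R₁ Vt A' φ ψ comm a : ↥(splitA R₁ Vt A' φ ψ comm)) :
    ResidueField ↥(splitB R₁ Vt A' φ ψ comm)) = residue _ (ιA R₁ Vt A' φ ψ comm a) := rfl

theorem πA_surjective : Function.Surjective (πA R₁ Vt A' φ ψ comm) := by
  intro z
  obtain ⟨a, ha⟩ := z.2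
  exact ⟨a, Subtype.ext ha⟩

theorem residue_comp_ιA : (residue ↥(splitB R₁ Vt A' φ ψ comm)).comp (ιA R₁ Vt A' φ ψ comm) =
    (splitA R₁ Vt A' φ ψ comm).subtype.comp (πA R₁ Vt A' φ ψ comm) := rfl

/-- the map of residue fields `κ(R₁) → κ(B)` -/
noncomputable def kmap : ResidueField ↥R₁ →+* ResidueField ↥(splitB R₁ Vt A' φ ψ comm) :=
  haveI := isLocalHom_cB R₁ Vt A' φ ψ comm hloc
  ResidueField.map (cB R₁ Vt A' φ ψ comm)

theorem kmap_residue (r₁ : ↥R₁) : kmap R₁ Vt A' φ ψ comm hloc (residue ↥R₁ r₁) =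
    residue _ (cB R₁ Vt A' φ ψ comm r₁) := by
  haveI := isLocalHom_cB R₁ Vt A' φ ψ comm hloc
  exact ResidueField.map_residue (cB R₁ Vt A' φ ψ comm) r₁

theorem residue_comp_cB : (residue ↥(splitB R₁ Vt A' φ ψ comm)).comp (cB R₁ Vt A' φ ψ comm) =
    (kmap R₁ Vt A' φ ψ comm hloc).comp (residue ↥R₁) := by
  ext r₁
  exact (kmap_residue R₁ Vt A' φ ψ comm hloc r₁).symm

theorem kmap_compσ (r : ↥(compV R₁ Vt)) :
    kmap R₁ Vt A' φ ψ comm hloc ((compσ R₁ Vt r : ↥Vt) : ResidueField ↥R₁) =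
      ((πA R₁ Vt A' φ ψ comm (φ r) : ↥(splitA R₁ Vt A' φ ψ comm)) :
        ResidueField ↥(splitB R₁ Vt A' φ ψ comm)) := by
  rw [compσ_coe, kmap_residue, πA_coe]
  congr 1
  apply Subtype.ext
  exact (hcomm R₁ Vt A' φ ψ comm r).symm

theorem kmap_mem (t : ↥Vt) : kmap R₁ Vt A' φ ψ comm hloc (t : ResidueField ↥R₁) ∈
    splitA R₁ Vt A' φ ψ comm := by
  obtain ⟨r, hr⟩ := compσ_surjective R₁ Vt t
  rw [← hr, kmap_compσ]
  exact (πA R₁ Vt A' φ ψ comm (φ r)).2

/-- the map `Vt → A''` -/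
noncomputable def φt : ↥Vt →+* ↥(splitA R₁ Vt A' φ ψ comm) :=
  ((kmap R₁ Vt A' φ ψ comm hloc).comp Vt.subtype).codRestrict (splitA R₁ Vt A' φ ψ comm)
    (kmap_mem R₁ Vt A' φ ψ comm hloc)

theorem φt_coe (t : ↥Vt) : ((φt R₁ Vt A' φ ψ comm hloc t : ↥(splitA R₁ Vt A' φ ψ comm)) :
    ResidueField ↥(splitB R₁ Vt A' φ ψ comm)) =
      kmap R₁ Vt A' φ ψ comm hloc (t : ResidueField ↥R₁) := rfl

theorem πA_comp_φ : (πA R₁ Vt A' φ ψ comm).comp φ =
    (φt R₁ Vt A' φ ψ comm hloc).comp (compσ R₁ Vt) := by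
  ext r
  exact (kmap_compσ R₁ Vt A' φ ψ comm hloc r).symm

theorem isLocalHom_φt : IsLocalHom (φt R₁ Vt A' φ ψ comm hloc) := by
  constructor
  intro t hu
  by_contra hno
  obtain ⟨r, hr⟩ := compσ_surjective R₁ Vt t
  have hr' : ¬ IsUnit r := fun h => hno (hr ▸ h.map (compσ R₁ Vt))
  have h1 : ¬ IsUnit (φ r) := fun h => hr' (hloc.map_nonunit _ h)
  haveI : IsLocalHom (πA R₁ Vt A' φ ψ comm) :=
    IsLocalHom.of_surjective _ (πA_surjective R₁ Vt A' φ ψ comm)
  have h2 : ¬ IsUnit (πA R₁ Vt A' φ ψ comm (φ r)) := fun h =>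
    h1 (IsLocalHom.map_nonunit (f := πA R₁ Vt A' φ ψ comm) _ h)
  have h3 : πA R₁ Vt A' φ ψ comm (φ r) = φt R₁ Vt A' φ ψ comm hloc t := by
    rw [← hr]
    exact RingHom.congr_fun (πA_comp_φ R₁ Vt A' φ ψ comm hloc) r
  rw [h3] at h2
  exact h2 hu

end Split

end Groth.Agent.Helper2.RefVC
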