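import Mathlib
import Groth.Agent.Lib.Helper2.RefVC.Alg

/-!
# The arc lemma for the refined valuative criterion, on schemes (helper2)

Given a specialization in `X'`, a field point `x'` of `X'` at the special point and a local ring
`A` mapping to the field of `x'` compatibly with a morphism `Spec A ⟶ V₀'`, we construct a
composite valuation ring whose generic point lies over `w` and whose special part dominates `A`.
-/

set_option autoImplicit false
set_option backward.isDefEq.respectTransparency.types false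
set_option synthInstance.maxHeartbeats 400000
set_option maxHeartbeats 4000000
set_option linter.style.haveILetI false
set_option linter.unusedSectionVars false
set_option linter.unusedVariables false
set_option linter.unusedSimpArgs false
set_option linter.unnecessarySimpa false

universe u

open IsLocalRing CategoryTheory AlgebraicGeometry

namespace Groth.Agent.Helper2.RefVC

open Groth.Agent.Lib.Helper9.ValCritGlue

theorem specMap_ofHom_comp {A B C : Type u} [CommRing A] [CommRing B] [CommRing C]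
    (f : A →+* B) (g : B →+* C) :
    Spec.map (CommRingCat.ofHom (g.comp f)) =
      Spec.map (CommRingCat.ofHom g) ≫ Spec.map (CommRingCat.ofHom f) := by
  rw [CommRingCat.ofHom_comp, Spec.map_comp]

theorem exists_arc {X' W' V₀' : Scheme.{u}} (a₂ : W' ⟶ X') (φc : X' ⟶ V₀') (w : W')
    {K' : Type u} [Field K'] (x' : Spec (CommRingCat.of K') ⟶ X')
    (hsp : a₂ w ⤳ x' (closedPoint K'))
    {A : Type u} [CommRing A] [IsLocalRing A] (θ : A →+* K')
    (y : Spec (CommRingCat.of A) ⟶ V₀')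
    (hy : Spec.map (CommRingCat.ofHom θ) ≫ y = x' ≫ φc) :
    ∃ (K₁ : Type u) (_ : Field K₁) (R₁ : ValuationSubring K₁)
      (Vt : ValuationSubring (ResidueField ↥R₁))
      (uK : Spec (CommRingCat.of K₁) ⟶ W') (g₁ : Spec (CommRingCat.of ↥R₁) ⟶ X')
      (β : K' →+* ResidueField ↥R₁) (vt : A →+* ↥Vt)
      (m : Spec (CommRingCat.of ↥(compV R₁ Vt)) ⟶ V₀'),
      Spec.map (CommRingCat.ofHom R₁.subtype) ≫ g₁ = uK ≫ a₂ ∧
      Spec.map (CommRingCat.ofHom (residue ↥R₁)) ≫ g₁ = Spec.map (CommRingCat.ofHom β) ≫ x' ∧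
      IsLocalHom vt ∧
      (∀ v : A, ((vt v : ↥Vt) : ResidueField ↥R₁) = β (θ v)) ∧
      Spec.map (CommRingCat.ofHom (compι R₁ Vt)) ≫ m = g₁ ≫ φc ∧
      Spec.map (CommRingCat.ofHom (compσ R₁ Vt)) ≫ m = Spec.map (CommRingCat.ofHom vt) ≫ y := by
  -- the local ring at the special point
  let aC : X'.presheaf.stalk (x' (closedPoint K')) ⟶ W'.residueField w :=
    X'.presheaf.stalkSpecializes hsp ≫ a₂.stalkMap w ≫ W'.residue w
  let bC : X'.presheaf.stalk (x' (closedPoint K')) ⟶ CommRingCat.of K' := Scheme.stalkClosedPointTo x'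
  have hbloc : IsLocalHom bC.hom := Scheme.isLocalHom_stalkClosedPointTo' x'
  have hb : ∀ o ∈ maximalIdeal (X'.presheaf.stalk (x' (closedPoint K'))), bC.hom o = 0 := by
    intro o ho
    by_contra hne
    have hu : IsUnit (bC.hom o) := isUnit_iff_ne_zero.2 hne
    exact (mem_maximalIdeal o).1 ho (hbloc.map_nonunit o hu)
  obtain ⟨K₁, hK₁, ρ, R₁, c, β, hc1, hcloc, hc3⟩ := exists_arc_alg aC.hom bC.hom hb
  let cC : X'.presheaf.stalk (x' (closedPoint K')) ⟶ CommRingCat.of ↥R₁ := CommRingCat.ofHom c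
  let g₁ : Spec (CommRingCat.of ↥R₁) ⟶ X' := Spec.map cC ≫ X'.fromSpecStalk (x' (closedPoint K'))
  let uK : Spec (CommRingCat.of K₁) ⟶ W' :=
    Spec.map (CommRingCat.ofHom ρ) ≫ W'.fromSpecResidueField w
  -- first equation
  have hring1 : cC ≫ CommRingCat.ofHom R₁.subtype = aC ≫ CommRingCat.ofHom ρ := by
    ext o
    exact hc1 o
  have P1 : Spec.map (CommRingCat.ofHom R₁.subtype) ≫ g₁ = uK ≫ a₂ := by
    have e1 : Spec.map (CommRingCat.ofHom R₁.subtype) ≫ g₁ =
        Spec.map (cC ≫ CommRingCat.ofHom R₁.subtype) ≫ X'.fromSpecStalk (x' (closedPoint K')) := by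
      rw [Spec.map_comp, Category.assoc]
    have e2 : uK ≫ a₂ = Spec.map (aC ≫ CommRingCat.ofHom ρ) ≫ X'.fromSpecStalk (x' (closedPoint K')) := by
      show (Spec.map (CommRingCat.ofHom ρ) ≫ Spec.map (W'.residue w) ≫ W'.fromSpecStalk w) ≫ a₂ =
        Spec.map ((X'.presheaf.stalkSpecializes hsp ≫ a₂.stalkMap w ≫ W'.residue w) ≫
          CommRingCat.ofHom ρ) ≫ X'.fromSpecStalk (x' (closedPoint K'))
      simp only [Spec.map_comp, Category.assoc, Scheme.SpecMap_stalkSpecializes_fromSpecStalk,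
        Scheme.SpecMap_stalkMap_fromSpecStalk]
      rfl
    rw [e1, e2, hring1]
  -- second equation
  have hring2 : cC ≫ CommRingCat.ofHom (residue ↥R₁) = bC ≫ CommRingCat.ofHom β := by
    ext o
    exact (hc3 o).symm
  have P2 : Spec.map (CommRingCat.ofHom (residue ↥R₁)) ≫ g₁ =
      Spec.map (CommRingCat.ofHom β) ≫ x' := by
    have e1 : Spec.map (CommRingCat.ofHom (residue ↥R₁)) ≫ g₁ =
        Spec.map (cC ≫ CommRingCat.ofHom (residue ↥R₁)) ≫ X'.fromSpecStalk (x' (closedPoint K')) := by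
      rw [Spec.map_comp, Category.assoc]
    have e2 : Spec.map (CommRingCat.ofHom β) ≫ x' =
        Spec.map (bC ≫ CommRingCat.ofHom β) ≫ X'.fromSpecStalk (x' (closedPoint K')) := by
      rw [Spec.map_comp, Category.assoc]
      congr 1
      exact (Scheme.Spec_stalkClosedPointTo_fromSpecStalk x').symm
    rw [e1, e2, hring2]
  -- the valuation ring of the residue field dominating `A`
  obtain ⟨Vt, hmem, hvtloc⟩ := IsLocalRing.exists_factor_valuationRing (β.comp θ)
  let vt : A →+* ↥Vt := (β.comp θ).codRestrict Vt.toSubring hmem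
  have hvt : ∀ v : A, ((vt v : ↥Vt) : ResidueField ↥R₁) = β (θ v) := fun v => rfl
  have hvtsub : Vt.subtype.comp vt = β.comp θ := RingHom.ext fun v => rfl
  -- gluing
  have hc : Spec.map (CommRingCat.ofHom Vt.subtype) ≫ (Spec.map (CommRingCat.ofHom vt) ≫ y) =
      Spec.map (CommRingCat.ofHom (residue ↥R₁)) ≫ (g₁ ≫ φc) := by
    rw [← Category.assoc, ← specMap_ofHom_comp, hvtsub, specMap_ofHom_comp, Category.assoc, hy,
      ← Category.assoc, ← Category.assoc, P2]
  obtain ⟨m, ⟨hm1, hm2⟩, -⟩ := glue K₁ (compV R₁ Vt) R₁ (compV_le R₁ Vt) (compι R₁ Vt)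
    (compι_coe R₁ Vt) Vt (compσ R₁ Vt) (compσ_surjective R₁ Vt) (compσ_coe R₁ Vt)
    (g₁ ≫ φc) (Spec.map (CommRingCat.ofHom vt) ≫ y) hc
  exact ⟨K₁, hK₁, R₁, Vt, uK, g₁, β, vt, m, P1, P2, hvtloc, hvt, hm1, hm2⟩

end Groth.Agent.Helper2.RefVC
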