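import Mathlib
import Groth.Agent.Lib.Helper2.RefVC.Arc
import Groth.Agent.Lib.Helper2.AlgSp.ExistVC
import Groth.Agent.Lib.Helper2.AlgSp.FibreSpecB
import Groth.Agent.Lib.Helper2.AlgSp.DenseChart
import Groth.Agent.Lib.Helper2.AlgSp.VCStrict
import Groth.Agent.Lib.Helper9.ValCritPts

/-!
# The refined valuative criterion over a scheme base (helper2)

`hasLiftExt_of_refined`: for `f : X ⟶ h_{V₀}` and a quasi-compact `h : U ⟶ X` with dense image,
if the valuative squares whose top arrow factors through `U` have uniqueness and existence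
(after extension), then every valuative square of `f` has a lift after extension.
-/

set_option autoImplicit false
set_option backward.isDefEq.respectTransparency.types false
set_option synthInstance.maxHeartbeats 400000
set_option maxHeartbeats 4000000
set_option linter.style.haveILetI false
set_option linter.unusedSectionVars false
set_option linter.unusedVariables false
set_option linter.unusedSimpArgs false
set_option linter.unnecessarySimpa false

universe u

open IsLocalRing CategoryTheory CategoryTheory.Limits AlgebraicGeometry Opposite AlgSp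
  TopologicalSpace

namespace Groth.Agent.Helper2.RefVC

open Groth.Agent.Lib.Helper9.ValCritGlue Groth.Agent.Helper2.AlgSpBasic

variable {S : Scheme.{u}}

/-- Base change of a quasi-compact morphism with dense image to a quasi-compact quasi-separated
scheme étale over the target, with a quasi-compact chart of the source. -/
theorem exists_dense_chart_qc {U X : Sp S} (hU : IsAlgSpace U) (hX : IsAlgSpace X) (h : U ⟶ X)
    (hh : IsQuasiCompactMor h) (hdense : DenseRange (Points.map h))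
    {W : Over S} (fst : (yon S).obj W ⟶ X) (hfst : RepWith @Etale fst)
    [CompactSpace ↥W.left] [QuasiSeparatedSpace ↥W.left] :
    ∃ (U' : Over S) (h' : U' ⟶ W) (pU : (yon S).obj U' ⟶ U),
      pU ≫ h = (yon S).map h' ≫ fst ∧ QuasiCompact h'.left ∧ DenseRange h'.left.base := by
  have sqP := IsPullback.of_hasPullback h fst
  have hP : IsAlgSpace (pullback h fst) :=
    isAlgSpace_of_isPullback hX.diag hU (IsAlgSpace.yon_obj W) h fst _ _ sqP
  have hWqc : IsQuasiCompactSp ((yon S).obj W) := (isQuasiCompactSp_yon_iff W).mpr inferInstance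
  have hPqc : IsQuasiCompactSp (pullback h fst) :=
    hh (IsAlgSpace.yon_obj W) hWqc fst (pullback.fst h fst) (pullback.snd h fst) sqP
  obtain ⟨U', p'', hpe, hps, hU'c⟩ := hPqc
  obtain ⟨h', hh'⟩ := (yon S).map_surjective (p'' ≫ pullback.snd h fst)
  refine ⟨U', h', p'' ≫ pullback.fst h fst, ?_, ?_, ?_⟩
  · rw [Category.assoc, pullback.condition, hh', Category.assoc]
  · haveI : CompactSpace ↥U'.left := hU'c
    infer_instance
  · -- density
    have hopen : IsOpenMap (Points.map fst) := isOpenMap_points_map_of_etale fst hfst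
    have hd2 : Dense ((Points.map fst) ⁻¹' (Set.range (Points.map h))) :=
      Dense.preimage hdense hopen
    have hsub : (Points.map fst) ⁻¹' (Set.range (Points.map h)) ⊆
        Set.range (Points.map ((yon S).map h')) := by
      rintro z ⟨x, hx⟩
      obtain ⟨q, hq1, hq2⟩ := points_exists_of_isPullback fst h (pullback.fst h fst)
        (pullback.snd h fst) sqP x z hx
      obtain ⟨u', rfl⟩ := surjective_ofPt p'' hps q
      refine ⟨Points.schemeHomeo U' u', ?_⟩
      rw [hh', Points.map_comp, ← hq2]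
      exact congrArg _ (Points.ofPt_eq_map_ofScheme p'' u').symm
    have hd3 : Dense (Set.range (Points.map ((yon S).map h'))) := hd2.mono hsub
    have hd4 : DenseRange (Points.map ((yon S).map h')) := hd3
    rw [Points.map_yon_map_eq] at hd4
    have hd5 : DenseRange ((Points.schemeHomeo W).symm ∘
        (Points.schemeHomeo W ∘ (fun t => h'.left t) ∘ (Points.schemeHomeo U').symm)) :=
      (Points.schemeHomeo W).symm.surjective.denseRange.comp hd4
        (Points.schemeHomeo W).symm.continuous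
    have hd6 : DenseRange (((Points.schemeHomeo W).symm ∘
        (Points.schemeHomeo W ∘ (fun t => h'.left t) ∘ (Points.schemeHomeo U').symm)) ∘
          (Points.schemeHomeo U')) :=
      hd5.comp (Points.schemeHomeo U').surjective.denseRange (by fun_prop)
    convert hd6 using 1
    funext t
    simp

theorem hasLiftExt_of_refined {U X : Sp S} (hU : IsAlgSpace U) (hX : IsAlgSpace X) {V₀ : Over S}
    (f : X ⟶ (yon S).obj V₀) (h : U ⟶ X)
    (hh : IsQuasiCompactMor h) (hd : DenseRange (Points.map h))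
    (hv : ∀ sq : ValSq f, (∃ t : (yon S).obj sq.ptK ⟶ U, t ≫ h = sq.top) →
      sq.HasUniq ∧ sq.HasLiftExt) (sq : ValSq f) : sq.HasLiftExt := by
  classical
  -- Step 1: an affine étale chart through the image of the generic point
  let pt : ↥(Spec (CommRingCat.of sq.K)) := closedPoint sq.K
  obtain ⟨X', c₀, hX'aff, hce, u₀, hu₀⟩ :=
    Groth.Agent.Helper2.FibreSpecB.exists_affine_chart_through hX (Points.ofPt sq.top pt)
  haveI := hX'aff
  -- Step 2: the fibre of the chart over the generic point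
  have hrep := hce.rep
  obtain ⟨cT, hcT⟩ := (yon S).map_surjective (hrep.fst sq.top)
  let T : Over S := hrep.pullback sq.top
  let dT : T ⟶ sq.ptK := hrep.snd sq.top
  have sqT : IsPullback ((yon S).map cT) ((yon S).map dT) c₀ sq.top := by
    rw [hcT]; exact hrep.isPullback sq.top
  obtain ⟨z, hz1, hz2⟩ := exists_point_of_isPullback_yon c₀ sq.top cT dT sqT u₀ pt hu₀
  let x'' : Spec (T.left.residueField z) ⟶ T.left := T.left.fromSpecResidueField z
  let dd : T.left ⟶ Spec (CommRingCat.of sq.K) := dT.left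
  let x' : Spec (CommRingCat.of ↑(T.left.residueField z)) ⟶ X'.left := x'' ≫ cT.left
  let ψ₀ : sq.K →+* ↑(T.left.residueField z) := (Spec.preimage (x'' ≫ dd)).hom
  have hψ₀ : Spec.map (CommRingCat.ofHom ψ₀) = x'' ≫ dd := Spec.map_preimage _
  have hx'pt : x' (closedPoint ↑(T.left.residueField z)) = u₀ := by
    show (x'' ≫ cT.left) (closedPoint ↑(T.left.residueField z)) = u₀
    rw [Scheme.Hom.comp_apply, Scheme.fromSpecResidueField_apply]
    exact hz1
  -- Step 3: a quasi-compact chart of `U ×_X X'` with dense image in `X'`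
  obtain ⟨W', a₂O, pU, hpU, ha₂qc, ha₂d⟩ := exists_dense_chart_qc hU hX h hh hd c₀ hce
  haveI := ha₂qc
  obtain ⟨w, hw⟩ :=
    Groth.Agent.Lib.Helper9.ValCritPts.exists_specializes_of_denseRange a₂O.left ha₂d u₀
  -- Step 4: scheme level maps
  obtain ⟨φcO, hφcO⟩ := (yon S).map_surjective (c₀ ≫ f)
  obtain ⟨ybO, hybO⟩ := (yon S).map_surjective sq.bot
  let φc : X'.left ⟶ V₀.left := φcO.left
  let y : Spec (CommRingCat.of sq.A) ⟶ V₀.left := ybO.left
  have hO : dT ≫ sq.j ≫ ybO = cT ≫ φcO := (yon S).map_injective (by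
    rw [Functor.map_comp, Functor.map_comp, Functor.map_comp, hybO, hφcO, ← sq.comm,
      ← Category.assoc, ← Category.assoc, sqT.w])
  have hO' : dd ≫ Spec.map (CommRingCat.ofHom (algebraMap sq.A sq.K)) ≫ y = cT.left ≫ φc :=
    congrArg (fun m => m.left) hO
  let θ : sq.A →+* ↑(T.left.residueField z) := ψ₀.comp (algebraMap sq.A sq.K)
  have hy : Spec.map (CommRingCat.ofHom θ) ≫ y = x' ≫ φc := by
    show Spec.map (CommRingCat.ofHom (ψ₀.comp (algebraMap sq.A sq.K))) ≫ y =
      (x'' ≫ cT.left) ≫ φc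
    rw [specMap_ofHom_comp, hψ₀]
    simp only [Category.assoc]
    rw [hO']
  have hφcw : φc ≫ V₀.hom = X'.hom := Over.w φcO
  have ha₂w : a₂O.left ≫ X'.hom = W'.hom := Over.w a₂O
  have hyw : y ≫ V₀.hom = sq.str := Over.w ybO
  have hdTw : dd ≫ (Spec.map (CommRingCat.ofHom (algebraMap sq.A sq.K)) ≫ sq.str) = T.hom :=
    Over.w dT
  -- Step 5: the arc
  have hsp : a₂O.left w ⤳ x' (closedPoint ↑(T.left.residueField z)) := by
    rw [hx'pt]; exact hw
  obtain ⟨K₁, hK₁, R₁, Vt, uK, g₁, β, vt, m, P1, P2, P3, P4, P5, P6⟩ :=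
    exists_arc a₂O.left φc w x' hsp θ y hy
  have P1r : ∀ {Z : Scheme.{u}} (k : X'.left ⟶ Z),
      Spec.map (CommRingCat.ofHom R₁.subtype) ≫ g₁ ≫ k = uK ≫ a₂O.left ≫ k := fun k => by
    rw [← Category.assoc, P1, Category.assoc]
  have P5r : ∀ {Z : Scheme.{u}} (k : V₀.left ⟶ Z),
      Spec.map (CommRingCat.ofHom (compι R₁ Vt)) ≫ m ≫ k = g₁ ≫ φc ≫ k := fun k => by
    rw [← Category.assoc, P5, Category.assoc]
  -- Step 6: the square over the composite valuation ring
  have halg : Spec.map (CommRingCat.ofHom (algebraMap ↥(compV R₁ Vt) K₁)) =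
      Spec.map (CommRingCat.ofHom R₁.subtype) ≫ Spec.map (CommRingCat.ofHom (compι R₁ Vt)) := by
    rw [← specMap_ofHom_comp]
    exact congrArg (fun r => Spec.map (CommRingCat.ofHom r)) (RingHom.ext fun a => rfl)
  have huK : uK ≫ W'.hom =
      Spec.map (CommRingCat.ofHom (algebraMap ↥(compV R₁ Vt) K₁)) ≫ m ≫ V₀.hom := by
    rw [halg, Category.assoc, P5r, P1r, hφcw, ha₂w]
  let ptKR : Over S :=
    Over.mk (Spec.map (CommRingCat.ofHom (algebraMap ↥(compV R₁ Vt) K₁)) ≫ m ≫ V₀.hom)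
  let ptAR : Over S := Over.mk (m ≫ V₀.hom)
  let uKO : ptKR ⟶ W' := Over.homMk uK huK
  let mO : ptAR ⟶ V₀ := Over.homMk m rfl
  let jR : ptKR ⟶ ptAR :=
    Over.homMk (Spec.map (CommRingCat.ofHom (algebraMap ↥(compV R₁ Vt) K₁))) rfl
  have hOR : uKO ≫ a₂O ≫ φcO = jR ≫ mO := by
    apply Over.OverMorphism.ext
    show uK ≫ a₂O.left ≫ φc = Spec.map (CommRingCat.ofHom (algebraMap ↥(compV R₁ Vt) K₁)) ≫ m
    rw [halg, Category.assoc, P5, P1r]
  have commR : ((yon S).map uKO ≫ pU ≫ h) ≫ f = (yon S).map jR ≫ (yon S).map mO := by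
    rw [← Functor.map_comp, ← hOR, Functor.map_comp, Functor.map_comp, hφcO, hpU]
    simp only [Category.assoc]
  let sqR : ValSq f :=
    { A := ↥(compV R₁ Vt), K := K₁, str := m ≫ V₀.hom, top := (yon S).map uKO ≫ pU ≫ h,
      bot := (yon S).map mO, comm := commR }
  obtain ⟨-, e, l, hl1, hl2⟩ := hv sqR ⟨(yon S).map uKO ≫ pU, Category.assoc _ _ _⟩
  -- Step 7: splitting the extension along the prime of the composite
  let B := splitB R₁ Vt e.A' e.φ e.ψ e.comm
  let cBr : ↥R₁ →+* ↥B := cB R₁ Vt e.A' e.φ e.ψ e.comm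
  let ιAr : e.A' →+* ↥B := ιA R₁ Vt e.A' e.φ e.ψ e.comm
  have E1 : cBr.comp (compι R₁ Vt) = ιAr.comp e.φ := cB_compι R₁ Vt e.A' e.φ e.ψ e.comm
  let A'' := splitA R₁ Vt e.A' e.φ e.ψ e.comm
  let πAr : e.A' →+* ↥A'' := πA R₁ Vt e.A' e.φ e.ψ e.comm
  let km : ResidueField ↥R₁ →+* ResidueField ↥B := kmap R₁ Vt e.A' e.φ e.ψ e.comm e.isLocalHom
  let φtr : ↥Vt →+* ↥A'' := φt R₁ Vt e.A' e.φ e.ψ e.comm e.isLocalHom
  have E2 : (residue ↥B).comp cBr = km.comp (residue ↥R₁) :=
    residue_comp_cB R₁ Vt e.A' e.φ e.ψ e.comm e.isLocalHom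
  have E4 : πAr.comp e.φ = φtr.comp (compσ R₁ Vt) :=
    πA_comp_φ R₁ Vt e.A' e.φ e.ψ e.comm e.isLocalHom
  have hφtloc : IsLocalHom φtr := isLocalHom_φt R₁ Vt e.A' e.φ e.ψ e.comm e.isLocalHom
  -- Over objects
  let strB : Spec (CommRingCat.of ↥B) ⟶ S :=
    Spec.map (CommRingCat.ofHom ιAr) ≫ Spec.map (CommRingCat.ofHom e.φ) ≫ m ≫ V₀.hom
  let ptAB : Over S := Over.mk strB
  let ptKB : Over S := Over.mk (Spec.map (CommRingCat.ofHom (algebraMap ↥B e.K')) ≫ strB)
  let jB : ptKB ⟶ ptAB := Over.homMk (Spec.map (CommRingCat.ofHom (algebraMap ↥B e.K'))) rfl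
  let ιAO : ptAB ⟶ e.ptA' := Over.homMk (Spec.map (CommRingCat.ofHom ιAr)) rfl
  have hcBO : (Spec.map (CommRingCat.ofHom cBr) ≫ g₁) ≫ X'.hom = strB := by
    show (Spec.map (CommRingCat.ofHom cBr) ≫ g₁) ≫ X'.hom =
      Spec.map (CommRingCat.ofHom ιAr) ≫ Spec.map (CommRingCat.ofHom e.φ) ≫ m ≫ V₀.hom
    rw [← Category.assoc (Spec.map (CommRingCat.ofHom ιAr)), ← specMap_ofHom_comp, ← E1,
      specMap_ofHom_comp, Category.assoc, Category.assoc, P5r, hφcw]
  let cBO : ptAB ⟶ X' := Over.homMk (Spec.map (CommRingCat.ofHom cBr) ≫ g₁) hcBO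
  let lB : (yon S).obj ptAB ⟶ X := (yon S).map ιAO ≫ l
  let l₂ : (yon S).obj ptAB ⟶ X := (yon S).map cBO ≫ c₀
  let jKe : e.ptK' ⟶ e.ptA' :=
    Over.homMk (Spec.map (CommRingCat.ofHom (algebraMap e.A' e.K'))) rfl
  let ψOe : e.ptK' ⟶ sqR.ptK := Over.homMk (Spec.map (CommRingCat.ofHom e.ψ)) (by
    change Spec.map _ ≫ Spec.map _ ≫ _ = Spec.map _ ≫ Spec.map _ ≫ _
    rw [← Spec.map_comp_assoc, ← Spec.map_comp_assoc, ← CommRingCat.ofHom_comp,
      ← CommRingCat.ofHom_comp, e.comm])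
  let φOe : e.ptA' ⟶ sqR.ptA := Over.homMk (Spec.map (CommRingCat.ofHom e.φ)) rfl
  have hl1' : (yon S).map jKe ≫ l = (yon S).map ψOe ≫ (yon S).map uKO ≫ pU ≫ h := hl1
  have hl2' : l ≫ f = (yon S).map φOe ≫ (yon S).map mO := hl2
  have halgB : Spec.map (CommRingCat.ofHom (algebraMap e.A' e.K')) =
      Spec.map (CommRingCat.ofHom (algebraMap ↥B e.K')) ≫ Spec.map (CommRingCat.ofHom ιAr) := by
    rw [← specMap_ofHom_comp]
    exact congrArg (fun r => Spec.map (CommRingCat.ofHom r)) (RingHom.ext fun a => rfl)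
  have hκ : 𝟙 (Spec (CommRingCat.of e.K')) ≫ e.ptK'.hom =
      Spec.map (CommRingCat.ofHom (algebraMap ↥B e.K')) ≫ strB := by
    rw [Category.id_comp]
    show Spec.map (CommRingCat.ofHom (algebraMap e.A' e.K')) ≫
        Spec.map (CommRingCat.ofHom e.φ) ≫ m ≫ V₀.hom =
      Spec.map (CommRingCat.ofHom (algebraMap ↥B e.K')) ≫ Spec.map (CommRingCat.ofHom ιAr) ≫
        Spec.map (CommRingCat.ofHom e.φ) ≫ m ≫ V₀.hom
    rw [halgB, Category.assoc]
  let κO : ptKB ⟶ e.ptK' := Over.homMk (𝟙 _) hκ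
  have hκ1 : jB ≫ ιAO = κO ≫ jKe := by
    apply Over.OverMorphism.ext
    show Spec.map (CommRingCat.ofHom (algebraMap ↥B e.K')) ≫ Spec.map (CommRingCat.ofHom ιAr) =
      𝟙 _ ≫ Spec.map (CommRingCat.ofHom (algebraMap e.A' e.K'))
    rw [Category.id_comp, halgB]
  have htopB : (yon S).map jB ≫ lB =
      ((yon S).map κO ≫ (yon S).map ψOe ≫ (yon S).map uKO ≫ pU) ≫ h := by
    show (yon S).map jB ≫ (yon S).map ιAO ≫ l = _
    rw [← Category.assoc, ← Functor.map_comp, hκ1, Functor.map_comp, Category.assoc, hl1']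
    simp only [Category.assoc]
  let sqB : ValSq f :=
    { A := ↥B, K := e.K', str := strB, top := (yon S).map jB ≫ lB, bot := lB ≫ f,
      comm := Category.assoc _ _ _ }
  obtain ⟨hUB, -⟩ :=
    hv sqB ⟨(yon S).map κO ≫ (yon S).map ψOe ≫ (yon S).map uKO ≫ pU, htopB.symm⟩
  -- the two lifts over `B` agree
  have e5 : Spec.map (CommRingCat.ofHom (algebraMap ↥B e.K')) ≫
      Spec.map (CommRingCat.ofHom cBr) =
      Spec.map (CommRingCat.ofHom e.ψ) ≫ Spec.map (CommRingCat.ofHom R₁.subtype) := by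
    rw [← specMap_ofHom_comp, ← specMap_ofHom_comp]
    exact congrArg (fun r => Spec.map (CommRingCat.ofHom r)) (RingHom.ext fun r => rfl)
  have hOv3 : jB ≫ cBO = κO ≫ ψOe ≫ uKO ≫ a₂O := by
    apply Over.OverMorphism.ext
    show Spec.map (CommRingCat.ofHom (algebraMap ↥B e.K')) ≫
        Spec.map (CommRingCat.ofHom cBr) ≫ g₁ =
      𝟙 _ ≫ Spec.map (CommRingCat.ofHom e.ψ) ≫ uK ≫ a₂O.left
    rw [Category.id_comp, ← P1, ← Category.assoc, e5, Category.assoc]
  have h3 : (yon S).map jB ≫ l₂ = (yon S).map jB ≫ lB := by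
    rw [htopB]
    show (yon S).map jB ≫ (yon S).map cBO ≫ c₀ = _
    rw [← Category.assoc, ← Functor.map_comp, hOv3]
    simp only [Functor.map_comp, Category.assoc]
    rw [hpU]
  have hOv4 : cBO ≫ φcO = ιAO ≫ φOe ≫ mO := by
    apply Over.OverMorphism.ext
    show (Spec.map (CommRingCat.ofHom cBr) ≫ g₁) ≫ φc =
      Spec.map (CommRingCat.ofHom ιAr) ≫ Spec.map (CommRingCat.ofHom e.φ) ≫ m
    rw [Category.assoc, ← P5, ← Category.assoc, ← specMap_ofHom_comp, E1, specMap_ofHom_comp,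
      Category.assoc]
  have h4 : l₂ ≫ f = lB ≫ f := by
    show ((yon S).map cBO ≫ c₀) ≫ f = ((yon S).map ιAO ≫ l) ≫ f
    rw [Category.assoc, Category.assoc, ← hφcO, hl2', ← Functor.map_comp, hOv4]
    simp only [Functor.map_comp]
  have hKEY : lB = l₂ := hUB lB l₂ rfl rfl h3 h4
  -- Step 8: the final dominating extension
  let φ'' : sq.A →+* ↥A'' := φtr.comp vt
  let ψ'' : sq.K →+* ResidueField ↥B := km.comp (β.comp ψ₀)
  have comm'' : (algebraMap ↥A'' (ResidueField ↥B)).comp φ'' =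
      ψ''.comp (algebraMap sq.A sq.K) := by
    ext v
    show km ((vt v : ↥Vt) : ResidueField ↥R₁) = km (β (ψ₀ (algebraMap sq.A sq.K v)))
    rw [P4]
    rfl
  have hloc'' : IsLocalHom φ'' :=
    ⟨fun a ha => P3.map_nonunit a (hφtloc.map_nonunit _ ha)⟩
  let ptA'' : Over S := Over.mk (Spec.map (CommRingCat.ofHom φ'') ≫ sq.str)
  let ptK'' : Over S := Over.mk
    (Spec.map (CommRingCat.ofHom (algebraMap ↥A'' (ResidueField ↥B))) ≫
      Spec.map (CommRingCat.ofHom φ'') ≫ sq.str)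
  let jK'' : ptK'' ⟶ ptA'' :=
    Over.homMk (Spec.map (CommRingCat.ofHom (algebraMap ↥A'' (ResidueField ↥B)))) rfl
  let ψO'' : ptK'' ⟶ sq.ptK := Over.homMk (Spec.map (CommRingCat.ofHom ψ'')) (by
    change Spec.map _ ≫ Spec.map _ ≫ _ = Spec.map _ ≫ Spec.map _ ≫ _
    rw [← Spec.map_comp_assoc, ← Spec.map_comp_assoc, ← CommRingCat.ofHom_comp,
      ← CommRingCat.ofHom_comp, comm''])
  let φO'' : ptA'' ⟶ sq.ptA := Over.homMk (Spec.map (CommRingCat.ofHom φ'')) rfl
  have hπ : Spec.map (CommRingCat.ofHom πAr) ≫ Spec.map (CommRingCat.ofHom e.φ) ≫ m =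
      Spec.map (CommRingCat.ofHom (φtr.comp vt)) ≫ y := by
    rw [← Category.assoc, ← specMap_ofHom_comp, E4, specMap_ofHom_comp, Category.assoc, P6,
      ← Category.assoc, ← specMap_ofHom_comp]
  have hπw : Spec.map (CommRingCat.ofHom πAr) ≫ e.ptA'.hom =
      Spec.map (CommRingCat.ofHom φ'') ≫ sq.str := by
    show Spec.map (CommRingCat.ofHom πAr) ≫ Spec.map (CommRingCat.ofHom e.φ) ≫ m ≫ V₀.hom =
      Spec.map (CommRingCat.ofHom (φtr.comp vt)) ≫ sq.str
    rw [← hyw, ← Category.assoc (Spec.map (CommRingCat.ofHom (φtr.comp vt))), ← hπ]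
    simp only [Category.assoc]
  let πAO : ptA'' ⟶ e.ptA' := Over.homMk (Spec.map (CommRingCat.ofHom πAr)) hπw
  let l'' : (yon S).obj ptA'' ⟶ X := (yon S).map πAO ≫ l
  have hOv5 : πAO ≫ φOe ≫ mO = φO'' ≫ ybO := by
    apply Over.OverMorphism.ext
    exact hπ
  have g2 : l'' ≫ f = (yon S).map φO'' ≫ sq.bot := by
    show ((yon S).map πAO ≫ l) ≫ f = _
    rw [Category.assoc, hl2', ← hybO, ← Functor.map_comp, ← Functor.map_comp,
      ← Functor.map_comp, hOv5]
  -- the first equation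
  have e3 : Spec.map (CommRingCat.ofHom (residue ↥B)) ≫ Spec.map (CommRingCat.ofHom ιAr) =
      Spec.map (CommRingCat.ofHom (algebraMap ↥A'' (ResidueField ↥B))) ≫
        Spec.map (CommRingCat.ofHom πAr) := by
    rw [← specMap_ofHom_comp, ← specMap_ofHom_comp]
    exact congrArg (fun r => Spec.map (CommRingCat.ofHom r)) (RingHom.ext fun a => rfl)
  have hrw : Spec.map (CommRingCat.ofHom (residue ↥B)) ≫ strB = ptK''.hom := by
    show Spec.map (CommRingCat.ofHom (residue ↥B)) ≫ Spec.map (CommRingCat.ofHom ιAr) ≫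
        Spec.map (CommRingCat.ofHom e.φ) ≫ m ≫ V₀.hom =
      Spec.map (CommRingCat.ofHom (algebraMap ↥A'' (ResidueField ↥B))) ≫
        Spec.map (CommRingCat.ofHom φ'') ≫ sq.str
    rw [← Category.assoc, e3, Category.assoc, ← hπw]
    rfl
  let rBO : ptK'' ⟶ ptAB := Over.homMk (Spec.map (CommRingCat.ofHom (residue ↥B))) hrw
  have hOv6 : jK'' ≫ πAO = rBO ≫ ιAO := by
    apply Over.OverMorphism.ext
    exact e3.symm
  have hψ''map : Spec.map (CommRingCat.ofHom ψ'') =
      Spec.map (CommRingCat.ofHom km) ≫ Spec.map (CommRingCat.ofHom β) ≫ x'' ≫ dd := by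
    show Spec.map (CommRingCat.ofHom (km.comp (β.comp ψ₀))) = _
    rw [specMap_ofHom_comp, specMap_ofHom_comp, hψ₀]
  have hcomm''map : Spec.map (CommRingCat.ofHom (algebraMap ↥A'' (ResidueField ↥B))) ≫
      Spec.map (CommRingCat.ofHom φ'') =
      Spec.map (CommRingCat.ofHom ψ'') ≫ Spec.map (CommRingCat.ofHom (algebraMap sq.A sq.K)) := by
    rw [← specMap_ofHom_comp, ← specMap_ofHom_comp, comm'']
  have hzw : (Spec.map (CommRingCat.ofHom km) ≫ Spec.map (CommRingCat.ofHom β) ≫ x'') ≫ T.hom =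
      ptK''.hom := by
    show _ = Spec.map (CommRingCat.ofHom (algebraMap ↥A'' (ResidueField ↥B))) ≫
      Spec.map (CommRingCat.ofHom φ'') ≫ sq.str
    rw [← Category.assoc (Spec.map (CommRingCat.ofHom (algebraMap ↥A'' (ResidueField ↥B)))),
      hcomm''map, hψ''map, ← hdTw]
    simp only [Category.assoc]
  let zO : ptK'' ⟶ T :=
    Over.homMk (Spec.map (CommRingCat.ofHom km) ≫ Spec.map (CommRingCat.ofHom β) ≫ x'') hzw
  have e2map : Spec.map (CommRingCat.ofHom (residue ↥B)) ≫ Spec.map (CommRingCat.ofHom cBr) =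
      Spec.map (CommRingCat.ofHom km) ≫ Spec.map (CommRingCat.ofHom (residue ↥R₁)) := by
    rw [← specMap_ofHom_comp, ← specMap_ofHom_comp, E2]
  have hOv7 : rBO ≫ cBO = zO ≫ cT := by
    apply Over.OverMorphism.ext
    show Spec.map (CommRingCat.ofHom (residue ↥B)) ≫ Spec.map (CommRingCat.ofHom cBr) ≫ g₁ =
      (Spec.map (CommRingCat.ofHom km) ≫ Spec.map (CommRingCat.ofHom β) ≫ x'') ≫ cT.left
    rw [← Category.assoc, e2map, Category.assoc, P2]
    simp only [Category.assoc]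
    rfl
  have hOv8 : zO ≫ dT = ψO'' := by
    apply Over.OverMorphism.ext
    show (Spec.map (CommRingCat.ofHom km) ≫ Spec.map (CommRingCat.ofHom β) ≫ x'') ≫ dd =
      Spec.map (CommRingCat.ofHom ψ'')
    rw [hψ''map]
    simp only [Category.assoc]
  have g1 : (yon S).map jK'' ≫ l'' = (yon S).map ψO'' ≫ sq.top := by
    show (yon S).map jK'' ≫ (yon S).map πAO ≫ l = _
    rw [← Category.assoc, ← Functor.map_comp, hOv6, Functor.map_comp, Category.assoc]
    show (yon S).map rBO ≫ lB = _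
    rw [hKEY]
    show (yon S).map rBO ≫ (yon S).map cBO ≫ c₀ = _
    rw [← Category.assoc, ← Functor.map_comp, hOv7, Functor.map_comp, Category.assoc, sqT.w,
      ← Category.assoc, ← Functor.map_comp, hOv8]
  let e'' : sq.DomExt :=
    { A' := ↥A'', K' := ResidueField ↥B, φ := φ'', ψ := ψ'', comm := comm'',
      isLocalHom := hloc'' }
  exact ⟨e'', l'', g1, g2⟩

end Groth.Agent.Helper2.RefVC
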