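import Mathlib
import Groth.Agent.Lib.Helper2.RefVC.Main
import Groth.Agent.Lib.Helper2.AlgSp.UnivTop
import Groth.Agent.Lib.Helper2.AlgSp.LocP
import Groth.Agent.Lib.Helper2.AlgSp.Valuative
import Groth.Agent.Lib.Helper2.AlgSp.QC

/-!
# The refined valuative criterion for algebraic spaces (helper2)

Reduction to a scheme base by an étale chart of the target, and the separatedness part through
the diagonal.
-/

set_option autoImplicit false
set_option backward.isDefEq.respectTransparency.types false
set_option synthInstance.maxHeartbeats 400000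
set_option maxHeartbeats 4000000
set_option linter.style.haveILetI false
set_option linter.unusedSectionVars false
set_option linter.unusedVariables false
set_option linter.unusedSimpArgs false
set_option linter.unnecessarySimpa false

universe u

open IsLocalRing CategoryTheory CategoryTheory.Limits AlgebraicGeometry Opposite AlgSp
  TopologicalSpace

namespace Groth.Agent.Helper2.RefVC

open Groth.Agent.Helper2.AlgSpBasic

variable {S : Scheme.{u}}

/-- Transport of the hypothesis on valuative squares under base change. -/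
theorem hv_of_isPullback {U X Y Z P UP : Sp S} (f : X ⟶ Y) (h : U ⟶ X) (g : Z ⟶ Y)
    (fst : P ⟶ X) (snd : P ⟶ Z) (sqP : IsPullback fst snd f g)
    (gU : UP ⟶ U) (hP : UP ⟶ P) (hw : gU ≫ h = hP ≫ fst)
    (hv : ∀ sq : ValSq f, (∃ t : (yon S).obj sq.ptK ⟶ U, t ≫ h = sq.top) →
      sq.HasUniq ∧ sq.HasLiftExt)
    (sq' : ValSq snd) (ht : ∃ t : (yon S).obj sq'.ptK ⟶ UP, t ≫ hP = sq'.top) :
    sq'.HasUniq ∧ sq'.HasLiftExt := by
  obtain ⟨t', ht'⟩ := ht
  let sq₂ : ValSq f :=
    { A := sq'.A, K := sq'.K, str := sq'.str, top := sq'.top ≫ fst, bot := sq'.bot ≫ g,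
      comm := by rw [Category.assoc, sqP.w, ← Category.assoc, sq'.comm, Category.assoc] }
  obtain ⟨hu₂, e, l, hl1, hl2⟩ := hv sq₂ ⟨t' ≫ gU, by
    show (t' ≫ gU) ≫ h = sq'.top ≫ fst
    rw [Category.assoc, hw, ← Category.assoc, ht']⟩
  constructor
  · intro l₁ l₂ h1 h2 h3 h4
    apply sqP.hom_ext
    · apply hu₂ (l₁ ≫ fst) (l₂ ≫ fst)
      · show (yon S).map sq'.j ≫ l₁ ≫ fst = sq'.top ≫ fst
        rw [← Category.assoc, h1]
      · show (l₁ ≫ fst) ≫ f = sq'.bot ≫ g
        rw [Category.assoc, sqP.w, ← Category.assoc, h2]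
      · show (yon S).map sq'.j ≫ l₂ ≫ fst = sq'.top ≫ fst
        rw [← Category.assoc, h3]
      · show (l₂ ≫ fst) ≫ f = sq'.bot ≫ g
        rw [Category.assoc, sqP.w, ← Category.assoc, h4]
    · rw [h2, h4]
  · let e' : sq'.DomExt :=
      { A' := e.A', K' := e.K', φ := e.φ, ψ := e.ψ, comm := e.comm, isLocalHom := e.isLocalHom }
    have hcomm : l ≫ f = ((yon S).map (Over.homMk (Spec.map (CommRingCat.ofHom e.φ)) rfl :
        e.ptA' ⟶ sq'.ptA) ≫ sq'.bot) ≫ g := by
      rw [hl2, Category.assoc]
    refine ⟨e', sqP.lift l _ hcomm, ?_, ?_⟩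
    · apply sqP.hom_ext
      · rw [Category.assoc, sqP.lift_fst, Category.assoc]
        exact hl1
      · rw [Category.assoc, sqP.lift_snd, Category.assoc, sq'.comm, ← Category.assoc,
          ← Category.assoc, ← Functor.map_comp, ← Functor.map_comp]
        congr 2
        apply Over.OverMorphism.ext
        change Spec.map _ ≫ Spec.map _ = Spec.map _ ≫ Spec.map _
        rw [← Spec.map_comp, ← Spec.map_comp, ← CommRingCat.ofHom_comp, ← CommRingCat.ofHom_comp,
          e.comm]
    · exact sqP.lift_snd _ _ _

/-- **The refined valuative criterion, universal closedness.** -/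
theorem isUnivClosedMor_of_refined {U X Y : Sp S} (hU : IsAlgSpace U) (hX : IsAlgSpace X)
    (hY : IsAlgSpace Y) (f : X ⟶ Y) (h : U ⟶ X) (hf : IsQuasiCompactMor f)
    (hh : IsQuasiCompactMor h) (hd : DenseRange (Points.map h))
    (hv : ∀ sq : ValSq f, (∃ t : (yon S).obj sq.ptK ⟶ U, t ≫ h = sq.top) →
      sq.HasUniq ∧ sq.HasLiftExt) : IsUnivClosedMor f := by
  obtain ⟨V₀, p, hpe, hps⟩ := hY.atlas
  have sqP : IsPullback (pullback.fst f p) (pullback.snd f p) f p := IsPullback.of_hasPullback f p
  have hP : IsAlgSpace (pullback f p) :=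
    isAlgSpace_of_isPullback hY.diag hX (IsAlgSpace.yon_obj V₀) f p _ _ sqP
  have sqU : IsPullback (pullback.fst h (pullback.fst f p)) (pullback.snd h (pullback.fst f p))
      h (pullback.fst f p) := IsPullback.of_hasPullback h (pullback.fst f p)
  have hUP : IsAlgSpace (pullback h (pullback.fst f p)) :=
    isAlgSpace_of_isPullback hX.diag hU hP h (pullback.fst f p) _ _ sqU
  -- quasi-compactness is stable under base change
  have hhP : IsQuasiCompactMor (pullback.snd h (pullback.fst f p)) :=
    fun Z Z' hZ hZq g a b sqZ =>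
      hh hZ hZq (g ≫ pullback.fst f p) (a ≫ pullback.fst h (pullback.fst f p)) b
        (sqZ.paste_horiz sqU)
  have hfP : IsQuasiCompactMor (pullback.snd f p) :=
    fun Z Z' hZ hZq g a b sqZ =>
      hf hZ hZq (g ≫ p) (a ≫ pullback.fst f p) b (sqZ.paste_horiz sqP)
  -- density is stable under étale base change
  have hfstE : RepWith @Etale (pullback.fst f p) := repWith_of_isPullback @Etale sqP.flip hpe
  have hopen : IsOpenMap (Points.map (pullback.fst f p)) :=
    isOpenMap_points_of_isEtaleMor hP (pullback.fst f p)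
      (fun U φ hφ => repWith_comp @Etale hφ hfstE)
  have hdP : DenseRange (Points.map (pullback.snd h (pullback.fst f p))) := by
    have hd2 : Dense ((Points.map (pullback.fst f p)) ⁻¹' (Set.range (Points.map h))) :=
      Dense.preimage hd hopen
    refine hd2.mono ?_
    rintro z ⟨x, hx⟩
    obtain ⟨q, hq1, hq2⟩ := points_exists_of_isPullback (pullback.fst f p) h
      (pullback.fst h (pullback.fst f p)) (pullback.snd h (pullback.fst f p)) sqU x z hx
    exact ⟨q, hq2⟩
  -- the criterion over the chart
  have heP : ExistVC (pullback.snd f p) := fun sq' =>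
    hasLiftExt_of_refined hUP hP (pullback.snd f p) (pullback.snd h (pullback.fst f p)) hhP hdP
      (fun sq'' ht => hv_of_isPullback f h p (pullback.fst f p) (pullback.snd f p) sqP
        (pullback.fst h (pullback.fst f p)) (pullback.snd h (pullback.fst f p)) sqU.w hv sq'' ht)
      sq'
  have hucP : IsUnivClosedMor (pullback.snd f p) :=
    isUnivClosedMor_of_existVC hP (IsAlgSpace.yon_obj V₀) (pullback.snd f p) hfP heP
  exact isUnivClosedMor_of_etale_cover f p hpe hps (pullback.fst f p) (pullback.snd f p) sqP hucP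

/-- **The refined valuative criterion, separatedness**: the diagonal is universally closed. -/
theorem isUnivClosedMor_diagonal_of_refined {U X Y : Sp S} (hU : IsAlgSpace U)
    (hX : IsAlgSpace X) (hY : IsAlgSpace Y) (f : X ⟶ Y) (h : U ⟶ X)
    (hh : IsQuasiCompactMor h) (hd : DenseRange (Points.map h))
    (hv : ∀ sq : ValSq f, (∃ t : (yon S).obj sq.ptK ⟶ U, t ≫ h = sq.top) →
      sq.HasUniq ∧ sq.HasLiftExt) (hqs : IsQuasiSeparatedMor f) :
    IsUnivClosedMor (pullback.diagonal f) := by
  have sqXX := IsPullback.of_hasPullback f f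
  have hXX : IsAlgSpace (pullback f f) :=
    isAlgSpace_of_isPullback hY.diag hX hX f f _ _ sqXX
  have hΔqc : IsQuasiCompactMor (pullback.diagonal f) :=
    isQuasiCompactMor_of_repWith hX hXX.diag _ hqs
  refine isUnivClosedMor_of_refined hU hX hXX (pullback.diagonal f) h hΔqc hh hd ?_
  intro sq ht
  constructor
  · -- uniqueness: the diagonal is a monomorphism
    intro l₁ l₂ _ h2 _ h4
    have e1 : l₁ ≫ pullback.diagonal f ≫ pullback.fst f f =
        l₂ ≫ pullback.diagonal f ≫ pullback.fst f f := by
      rw [← Category.assoc, ← Category.assoc, h2, h4]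
    rw [pullback.diagonal_fst, Category.comp_id, Category.comp_id] at e1
    exact e1
  · -- existence: the two components of the bottom arrow agree
    obtain ⟨t, ht⟩ := ht
    have hj1 : (yon S).map sq.j ≫ sq.bot ≫ pullback.fst f f = sq.top := by
      rw [← Category.assoc, ← sq.comm, Category.assoc, pullback.diagonal_fst, Category.comp_id]
    have hj2 : (yon S).map sq.j ≫ sq.bot ≫ pullback.snd f f = sq.top := by
      rw [← Category.assoc, ← sq.comm, Category.assoc, pullback.diagonal_snd, Category.comp_id]
    let sqf : ValSq f :=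
      { A := sq.A, K := sq.K, str := sq.str, top := sq.top,
        bot := (sq.bot ≫ pullback.fst f f) ≫ f,
        comm := by rw [← Category.assoc, ← Category.assoc, Category.assoc _ sq.bot, hj1] }
    obtain ⟨huf, -⟩ := hv sqf ⟨t, ht⟩
    have hb : sq.bot ≫ pullback.fst f f = sq.bot ≫ pullback.snd f f :=
      huf _ _ hj1 rfl hj2 (by
        show (sq.bot ≫ pullback.snd f f) ≫ f = (sq.bot ≫ pullback.fst f f) ≫ f
        rw [Category.assoc, Category.assoc, pullback.condition])
    have hbot : (sq.bot ≫ pullback.fst f f) ≫ pullback.diagonal f = sq.bot := by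
      apply pullback.hom_ext
      · rw [Category.assoc, pullback.diagonal_fst, Category.comp_id]
      · rw [Category.assoc, pullback.diagonal_snd, Category.comp_id, hb]
    exact hasLiftExt_of_hasLift sq ⟨sq.bot ≫ pullback.fst f f, hj1, hbot⟩

end Groth.Agent.Helper2.RefVC
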