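import Mathlib
import Groth.Agent.Lib.Helper2.RefVC.Main
import Groth.Agent.Lib.Helper9.ValCritDVR

/-!
# From discrete valuation rings to all valuation rings, for algebraic spaces (helper2)

`hasLiftExt_of_dvr`: over an affine Noetherian base, if the valuative squares over discrete
valuation rings whose generic point factors through an affine scheme `U''` of finite type have
lifts, then every valuative square whose generic point factors through `U''` has a lift after a
dominating extension.  The finite-data argument is run over a finitely generated subfield of an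
algebraic closure over which all geometric points of the fibre of an affine étale chart are
defined.
-/

set_option autoImplicit false
set_option backward.isDefEq.respectTransparency.types false
set_option synthInstance.maxHeartbeats 400000
set_option maxHeartbeats 4000000
set_option linter.style.haveILetI false
set_option linter.unusedSectionVars false
set_option linter.unusedVariables false
set_option linter.unusedSimpArgs false
set_option linter.unnecessarySimpa false

universe u

open IsLocalRing CategoryTheory CategoryTheory.Limits AlgebraicGeometry Opposite AlgSp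
  TopologicalSpace

namespace Groth.Agent.Helper2.RefVC

open Groth.Agent.Lib.Helper9.ValCritGlue Groth.Agent.Helper2.AlgSpBasic
open Groth.Agent.Lib.Helper9.ValCritAff

/-- two sections of a morphism to the spectrum of a field through the same point agree -/
theorem section_unique {K : Type u} [Field K] {P : Scheme.{u}} (f : P ⟶ Spec (CommRingCat.of K))
    (s s' : Spec (CommRingCat.of K) ⟶ P) (hs : s ≫ f = 𝟙 _) (hs' : s' ≫ f = 𝟙 _)
    (hpt : s (closedPoint K) = s' (closedPoint K)) : s = s' := by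
  obtain ⟨_, ⟨U, hU, rfl⟩, hxU, -⟩ := P.isBasis_affineOpens.exists_subset_of_mem_open
    (Set.mem_univ (s (closedPoint K))) isOpen_univ
  have hU' : IsAffineOpen U := hU
  obtain ⟨σ, hσ⟩ := factor_affine (CommRingCat.of K) s hU' hxU
  obtain ⟨σ', hσ'⟩ := factor_affine (CommRingCat.of K) s' hU' (hpt ▸ hxU)
  let ι : CommRingCat.of K ⟶ Γ(P, U) := Spec.preimage (hU'.fromSpec ≫ f)
  have hι : Spec.map ι = hU'.fromSpec ≫ f := Spec.map_preimage _
  have h1 : ι ≫ σ = 𝟙 _ := by
    apply Spec.map_injective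
    rw [Spec.map_comp, hι, ← Category.assoc, ← hσ, hs, Spec.map_id]
  have h1' : ι ≫ σ' = 𝟙 _ := by
    apply Spec.map_injective
    rw [Spec.map_comp, hι, ← Category.assoc, ← hσ', hs', Spec.map_id]
  have hk : RingHom.ker σ.hom = RingHom.ker σ'.hom := by
    have e1 : (Spec.map σ) (closedPoint K) = (Spec.map σ') (closedPoint K) := by
      apply hU'.fromSpec.isOpenEmbedding.injective
      have a1 : hU'.fromSpec ((Spec.map σ) (closedPoint K)) = s (closedPoint K) := by
        rw [hσ]; rfl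
      have a2 : hU'.fromSpec ((Spec.map σ') (closedPoint K)) = s' (closedPoint K) := by
        rw [hσ']; rfl
      rw [a1, a2, hpt]
    have e2 := congrArg PrimeSpectrum.asIdeal e1
    change Ideal.comap σ.hom (maximalIdeal K) = Ideal.comap σ'.hom (maximalIdeal K) at e2
    rw [IsLocalRing.maximalIdeal_eq_bot] at e2
    rw [RingHom.ker_eq_comap_bot, RingHom.ker_eq_comap_bot]
    exact e2
  have hσσ' : σ = σ' := by
    ext x
    have e3 : σ.hom (ι.hom (σ.hom x)) = σ.hom x := congrArg (fun m => m.hom (σ.hom x)) h1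
    have e3' : σ'.hom (ι.hom (σ.hom x)) = σ.hom x := congrArg (fun m => m.hom (σ.hom x)) h1'
    have hx : x - ι.hom (σ.hom x) ∈ RingHom.ker σ.hom := by
      rw [RingHom.mem_ker, map_sub, sub_eq_zero]
      exact e3.symm
    rw [hk, RingHom.mem_ker, map_sub, sub_eq_zero] at hx
    rw [hx]
    exact e3'.symm
  rw [hσ, hσ', hσσ']

theorem val_lt_one_of_inv_not_mem {L : Type u} [Field L] (R : ValuationSubring L) (x : L)
    (hx : x⁻¹ ∉ R) : R.valuation x < 1 := by
  have := Groth.Agent.Lib.Helper9.ValCritDVR.val_inv_lt_one R x⁻¹ hx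
  rwa [inv_inv] at this

theorem map_mem_of_gens {C B Ω : Type u} [CommRing C] [CommRing B] [CommRing Ω] (φB : C →+* B)
    (gB : Set B) (hgB : @Algebra.adjoin C B _ _ φB.toAlgebra gB = ⊤) (β : B →+* Ω)
    (Λ : Subring Ω) (h1 : ∀ c, β (φB c) ∈ Λ) (h2 : ∀ b ∈ gB, β b ∈ Λ) (x : B) : β x ∈ Λ := by
  letI := φB.toAlgebra
  have hx : x ∈ Algebra.adjoin C gB := by rw [hgB]; exact Algebra.mem_top
  induction hx using Algebra.adjoin_induction with
  | mem b hb => exact h2 b hb
  | algebraMap c => exact h1 c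
  | add a b _ _ ha hb => rw [map_add]; exact Λ.add_mem ha hb
  | mul a b _ _ ha hb => rw [map_mul]; exact Λ.mul_mem ha hb

variable {S : Scheme.{u}}

/-- the algebraic closure of the fraction field of a valuative square -/
abbrev OmegaOf {F G : Sp S} {f : F ⟶ G} (sq : ValSq f) : Type u := AlgebraicClosure sq.K

theorem hasLiftExt_of_dvr {X : Sp S} (hX : IsAlgSpace X)
    {C B B'' : Type u} [CommRing C] [IsNoetherianRing C] [CommRing B] [CommRing B'']
    (sC : Spec (CommRingCat.of C) ⟶ S)
    (φB : C →+* B) (hφB : φB.FiniteType) (φU : C →+* B'') (hφU : φU.FiniteType)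
    (f : X ⟶ (yon S).obj (Over.mk sC)) (hqs : IsQuasiSeparatedMor f)
    (c₀ : (yon S).obj (Over.mk (Spec.map (CommRingCat.ofHom φB) ≫ sC)) ⟶ X)
    (hce : RepWith @Etale c₀) (hcs : RepWith @Surjective c₀)
    (hc₀f : c₀ ≫ f = (yon S).map (Over.homMk (Spec.map (CommRingCat.ofHom φB)) rfl :
      Over.mk (Spec.map (CommRingCat.ofHom φB) ≫ sC) ⟶ Over.mk sC))
    (h'' : (yon S).obj (Over.mk (Spec.map (CommRingCat.ofHom φU) ≫ sC)) ⟶ X)
    (hh''f : h'' ≫ f = (yon S).map (Over.homMk (Spec.map (CommRingCat.ofHom φU)) rfl :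
      Over.mk (Spec.map (CommRingCat.ofHom φU) ≫ sC) ⟶ Over.mk sC))
    (Hdvr : ∀ sq' : ValSq (h'' ≫ f), IsDiscreteValuationRing sq'.A →
      ∃ l : (yon S).obj sq'.ptA ⟶ X, (yon S).map sq'.j ≫ l = sq'.top ≫ h'' ∧ l ≫ f = sq'.bot)
    (sq : ValSq f)
    (t : (yon S).obj sq.ptK ⟶ (yon S).obj (Over.mk (Spec.map (CommRingCat.ofHom φU) ≫ sC)))
    (ht : t ≫ h'' = sq.top) : sq.HasLiftExt := by
  classical
  let V₀ : Over S := Over.mk sC
  let X' : Over S := Over.mk (Spec.map (CommRingCat.ofHom φB) ≫ sC)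
  let U'' : Over S := Over.mk (Spec.map (CommRingCat.ofHom φU) ≫ sC)
  let fB : X' ⟶ V₀ := Over.homMk (Spec.map (CommRingCat.ofHom φB)) rfl
  let fU : U'' ⟶ V₀ := Over.homMk (Spec.map (CommRingCat.ofHom φU)) rfl
  have hc₀f' : c₀ ≫ f = (yon S).map fB := hc₀f
  have hh''f' : h'' ≫ f = (yon S).map fU := hh''f
  -- (1) the ring level data of the square
  obtain ⟨tO, htO⟩ := (yon S).map_surjective t
  obtain ⟨ybO, hybO⟩ := (yon S).map_surjective sq.bot
  let tl : Spec (CommRingCat.of sq.K) ⟶ Spec (CommRingCat.of B'') := tO.left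
  let yl : Spec (CommRingCat.of sq.A) ⟶ Spec (CommRingCat.of C) := ybO.left
  let τ : B'' →+* sq.K := (Spec.preimage tl).hom
  have hτ : Spec.map (CommRingCat.ofHom τ) = tl := Spec.map_preimage _
  let γ : C →+* sq.A := (Spec.preimage yl).hom
  have hγ : Spec.map (CommRingCat.ofHom γ) = yl := Spec.map_preimage _
  have hO1 : tO ≫ fU = sq.j ≫ ybO := (yon S).map_injective (by
    rw [Functor.map_comp, Functor.map_comp, htO, hybO, ← hh''f', ← Category.assoc, ht, sq.comm])
  have hO1' : tl ≫ Spec.map (CommRingCat.ofHom φU) =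
      Spec.map (CommRingCat.ofHom (algebraMap sq.A sq.K)) ≫ yl := congrArg (fun m => m.left) hO1
  have hring1 : (algebraMap sq.A sq.K).comp γ = τ.comp φU := by
    have h1 : Spec.map (CommRingCat.ofHom ((algebraMap sq.A sq.K).comp γ)) =
        Spec.map (CommRingCat.ofHom (τ.comp φU)) := by
      rw [specMap_ofHom_comp, specMap_ofHom_comp, hτ, hγ, hO1']
    exact congrArg CommRingCat.Hom.hom (Spec.map_injective h1)
  have hyw : yl ≫ sC = sq.str := Over.w ybO
  -- (2) the algebraic closure and an extension of the valuation ring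
  let ιΩ : sq.K →+* OmegaOf sq := algebraMap sq.K (OmegaOf sq)
  obtain ⟨AΩ, hAΩmem, hAΩloc⟩ :=
    IsLocalRing.exists_factor_valuationRing (ιΩ.comp (algebraMap sq.A sq.K))
  let φΩ : sq.A →+* ↥AΩ := (ιΩ.comp (algebraMap sq.A sq.K)).codRestrict AΩ.toSubring hAΩmem
  have hcommΩ : (algebraMap ↥AΩ (OmegaOf sq)).comp φΩ = ιΩ.comp (algebraMap sq.A sq.K) :=
    RingHom.ext fun a => rfl
  let e : sq.DomExt :=
    { A' := ↥AΩ, K' := OmegaOf sq, φ := φΩ, ψ := ιΩ, comm := hcommΩ, isLocalHom := hAΩloc }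
  let ψO : e.ptK' ⟶ sq.ptK := Over.homMk (Spec.map (CommRingCat.ofHom ιΩ)) (by
    change Spec.map _ ≫ Spec.map _ ≫ _ = Spec.map _ ≫ Spec.map _ ≫ _
    rw [← Spec.map_comp_assoc, ← Spec.map_comp_assoc, ← CommRingCat.ofHom_comp,
      ← CommRingCat.ofHom_comp, hcommΩ])
  let xΩ : (yon S).obj e.ptK' ⟶ X := (yon S).map ψO ≫ sq.top
  have hg₀eq : (ιΩ.comp τ).comp φU = (ιΩ.comp (algebraMap sq.A sq.K)).comp γ := by
    rw [RingHom.comp_assoc, RingHom.comp_assoc, hring1]
  -- (4) the geometric fibre of the chart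
  have hrep := hce.rep
  obtain ⟨cW, hcW⟩ := (yon S).map_surjective (hrep.fst xΩ)
  let WΩ : Over S := hrep.pullback xΩ
  let dW : WΩ ⟶ e.ptK' := hrep.snd xΩ
  have sqW : IsPullback ((yon S).map cW) ((yon S).map dW) c₀ xΩ := by
    rw [hcW]; exact hrep.isPullback xΩ
  let dd : WΩ.left ⟶ Spec (CommRingCat.of (OmegaOf sq)) := dW.left
  let cc : WΩ.left ⟶ Spec (CommRingCat.of B) := cW.left
  haveI hde : Etale dd := hce.property xΩ _ _ (hrep.isPullback xΩ)
  haveI hds : Surjective dd := hcs.property xΩ _ _ (hrep.isPullback xΩ)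
  have hjqc : IsQuasiCompactMor ((yon S).map fB) :=
    isQuasiCompactMor_of_repWith (IsAlgSpace.yon_obj X') (IsAlgSpace.yon_obj V₀).diag _
      ((repWith_yon_map_iff _ _).2 (show QuasiCompact fB.left from
        (inferInstance : QuasiCompact (Spec.map (CommRingCat.ofHom φB)))))
  have hc₀qc : IsQuasiCompactMor c₀ :=
    isQuasiCompactMor_of_comp_of_isQuasiSeparatedMor (IsAlgSpace.yon_obj X') hX
      (IsAlgSpace.yon_obj V₀) c₀ f (by rw [hc₀f']; exact hjqc) hqs
  have hWq : IsQuasiCompactSp ((yon S).obj WΩ) :=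
    hc₀qc (IsAlgSpace.yon_obj e.ptK')
      ((isQuasiCompactSp_yon_iff e.ptK').2
        (inferInstanceAs (CompactSpace ↥(Spec (CommRingCat.of (OmegaOf sq)))))) xΩ _ _ sqW
  haveI : CompactSpace ↥WΩ.left := (isQuasiCompactSp_yon_iff WΩ).1 hWq
  haveI : DiscreteTopology ↥WΩ.left := discreteTopology_of_etale_field dd
  haveI : Finite ↥WΩ.left := finite_of_compact_of_discrete
  haveI : Fintype ↥WΩ.left := Fintype.ofFinite _
  -- (5) sections through the points of the fibre
  have hsec : ∀ w : ↥WΩ.left, ∃ s : Spec (CommRingCat.of (OmegaOf sq)) ⟶ WΩ.left,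
      s ≫ dd = 𝟙 _ ∧ s (closedPoint (OmegaOf sq)) = w := fun w =>
    exists_section_of_etale_algClosed dd w
  choose sW hsW1 hsW2 using hsec
  let β : ↥WΩ.left → (B →+* OmegaOf sq) := fun w => (Spec.preimage (sW w ≫ cc)).hom
  have hβ : ∀ w, Spec.map (CommRingCat.ofHom (β w)) = sW w ≫ cc := fun w => Spec.map_preimage _
  have hO2 : cW ≫ fB = dW ≫ ψO ≫ tO ≫ fU := (yon S).map_injective (by
    rw [Functor.map_comp, Functor.map_comp, Functor.map_comp, Functor.map_comp, ← hc₀f',
      ← Category.assoc, sqW.w, htO, ← hh''f']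
    show ((yon S).map dW ≫ (yon S).map ψO ≫ sq.top) ≫ f = _
    rw [← ht]
    simp only [Category.assoc])
  have hO2' : cc ≫ Spec.map (CommRingCat.ofHom φB) =
      dd ≫ Spec.map (CommRingCat.ofHom ιΩ) ≫ tl ≫ Spec.map (CommRingCat.ofHom φU) :=
    congrArg (fun m => m.left) hO2
  have hβC : ∀ w, (β w).comp φB = (ιΩ.comp τ).comp φU := by
    intro w
    have h1 : Spec.map (CommRingCat.ofHom ((β w).comp φB)) =
        Spec.map (CommRingCat.ofHom ((ιΩ.comp τ).comp φU)) := by
      rw [specMap_ofHom_comp, specMap_ofHom_comp, specMap_ofHom_comp, hβ, hτ, Category.assoc, hO2',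
        ← Category.assoc, hsW1 w, Category.id_comp, Category.assoc]
    exact congrArg CommRingCat.Hom.hom (Spec.map_injective h1)
  -- (6) generators and the finitely generated subfield
  obtain ⟨gB, hgB⟩ := (show @Algebra.FiniteType C B _ _ φB.toAlgebra from hφB).out
  obtain ⟨gU, hgU⟩ := (show @Algebra.FiniteType C B'' _ _ φU.toAlgebra from hφU).out
  let g₀ : C →+* OmegaOf sq := (ιΩ.comp τ).comp φU
  let S₀ : Finset (OmegaOf sq) :=
    gU.image (ιΩ.comp τ) ∪ Finset.univ.biUnion fun w => gB.image (β w)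
  let L : Subfield (OmegaOf sq) := Subfield.closure (Set.range g₀ ∪ (S₀ : Set (OmegaOf sq)))
  have hLg : ∀ c, g₀ c ∈ L := fun c => Subfield.subset_closure (Or.inl ⟨c, rfl⟩)
  have hLS : ∀ s ∈ S₀, s ∈ L := fun s hs => Subfield.subset_closure (Or.inr hs)
  have hβg₀ : ∀ w c, β w (φB c) = g₀ c := fun w c => RingHom.congr_fun (hβC w) c
  have hLτ : ∀ x : B'', (ιΩ.comp τ) x ∈ L := fun x =>
    map_mem_of_gens φU (gU : Set B'') hgU (ιΩ.comp τ) L.toSubring (fun c => hLg c)
      (fun b hb => hLS _ (Finset.mem_union_left _ (Finset.mem_image_of_mem _ hb))) x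
  have hLβ : ∀ w (x : B), β w x ∈ L := fun w x =>
    map_mem_of_gens φB (gB : Set B) hgB (β w) L.toSubring
      (fun c => by rw [hβg₀ w c]; exact hLg c)
      (fun b hb => hLS _ (Finset.mem_union_right _
        (Finset.mem_biUnion.2 ⟨w, Finset.mem_univ w, Finset.mem_image_of_mem _ hb⟩))) x
  let τL : B'' →+* ↥L := (ιΩ.comp τ).codRestrict L hLτ
  let g : C →+* ↥L := τL.comp φU
  let S_L : Finset ↥L := S₀.subtype (· ∈ L)
  have hS : ∀ z : ↥L, z ∈ Subfield.closure (Set.range g ∪ (S_L : Set ↥L)) := by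
    intro z
    have h1 : L ≤ (Subfield.closure (Set.range g ∪ (S_L : Set ↥L))).map L.subtype := by
      show Subfield.closure _ ≤ _
      rw [Subfield.closure_le]
      rintro x (⟨c, rfl⟩ | hx)
      · exact Subfield.mem_map.2 ⟨g c, Subfield.subset_closure (Or.inl ⟨c, rfl⟩), rfl⟩
      · exact Subfield.mem_map.2 ⟨⟨x, hLS x (Finset.mem_coe.1 hx)⟩,
          Subfield.subset_closure (Or.inr (Finset.mem_coe.2
            (Finset.mem_subtype.2 (Finset.mem_coe.1 hx)))), rfl⟩
    obtain ⟨z', hz', hzz'⟩ := Subfield.mem_map.1 (h1 z.2)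
    have : z' = z := Subtype.ext hzz'
    rw [← this]; exact hz'
  -- (7) the valuation ring on `L`
  let R_L : ValuationSubring ↥L := AΩ.comap L.subtype
  have hg₀A : ∀ c, g₀ c ∈ AΩ := by
    intro c
    have h := RingHom.congr_fun hg₀eq c
    have h' : g₀ c = ιΩ (algebraMap sq.A sq.K (γ c)) := h
    rw [h']; exact hAΩmem (γ c)
  have hg : ∀ c, g c ∈ R_L := fun c => hg₀A c
  by_cases hgood : ∃ w, ∀ b ∈ gB, β w b ∈ AΩ
  · -- the good case: a lift through the chart
    obtain ⟨w, hw⟩ := hgood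
    have hβA : ∀ x : B, β w x ∈ AΩ := fun x =>
      map_mem_of_gens φB (gB : Set B) hgB (β w) AΩ.toSubring
        (fun c => by rw [hβg₀ w c]; exact hg₀A c) (fun b hb => hw b hb) x
    let βt : B →+* ↥AΩ := (β w).codRestrict AΩ hβA
    have hβtC : βt.comp φB = φΩ.comp γ := by
      refine RingHom.ext fun c => Subtype.ext ?_
      show β w (φB c) = ιΩ (algebraMap sq.A sq.K (γ c))
      rw [hβg₀ w c]
      exact RingHom.congr_fun hg₀eq c
    have hβtw : Spec.map (CommRingCat.ofHom βt) ≫ X'.hom = e.ptA'.hom := by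
      show Spec.map (CommRingCat.ofHom βt) ≫ Spec.map (CommRingCat.ofHom φB) ≫ sC =
        Spec.map (CommRingCat.ofHom φΩ) ≫ sq.str
      rw [← hyw, ← hγ, ← Category.assoc, ← specMap_ofHom_comp, hβtC, specMap_ofHom_comp,
        Category.assoc]
    let βtO : e.ptA' ⟶ X' := Over.homMk (Spec.map (CommRingCat.ofHom βt)) hβtw
    have hsOw : sW w ≫ WΩ.hom = e.ptK'.hom := by
      rw [← Over.w dW, ← Category.assoc]
      show (sW w ≫ dd) ≫ _ = _
      rw [hsW1 w, Category.id_comp]
    let sO : e.ptK' ⟶ WΩ := Over.homMk (sW w) hsOw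
    let jKe : e.ptK' ⟶ e.ptA' :=
      Over.homMk (Spec.map (CommRingCat.ofHom (algebraMap ↥AΩ (OmegaOf sq)))) rfl
    let φOe : e.ptA' ⟶ sq.ptA := Over.homMk (Spec.map (CommRingCat.ofHom φΩ)) rfl
    have hOv1 : jKe ≫ βtO = sO ≫ cW := by
      apply Over.OverMorphism.ext
      show Spec.map (CommRingCat.ofHom (algebraMap ↥AΩ (OmegaOf sq))) ≫
        Spec.map (CommRingCat.ofHom βt) = sW w ≫ cc
      rw [← specMap_ofHom_comp, ← hβ w]
      exact congrArg (fun r => Spec.map (CommRingCat.ofHom r)) (RingHom.ext fun x => rfl)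
    have hOv2 : sO ≫ dW = 𝟙 _ := by
      apply Over.OverMorphism.ext
      exact hsW1 w
    have hOv3 : βtO ≫ fB = φOe ≫ ybO := by
      apply Over.OverMorphism.ext
      show Spec.map (CommRingCat.ofHom βt) ≫ Spec.map (CommRingCat.ofHom φB) =
        Spec.map (CommRingCat.ofHom φΩ) ≫ yl
      rw [← hγ, ← specMap_ofHom_comp, ← specMap_ofHom_comp, hβtC]
    refine ⟨e, (yon S).map βtO ≫ c₀, ?_, ?_⟩
    · show (yon S).map jKe ≫ (yon S).map βtO ≫ c₀ = (yon S).map ψO ≫ sq.top
      rw [← Category.assoc, ← Functor.map_comp, hOv1, Functor.map_comp, Category.assoc, sqW.w,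
        ← Category.assoc, ← Functor.map_comp, hOv2, CategoryTheory.Functor.map_id, Category.id_comp]
    · show ((yon S).map βtO ≫ c₀) ≫ f = (yon S).map φOe ≫ sq.bot
      rw [Category.assoc, hc₀f', ← Functor.map_comp, hOv3, Functor.map_comp, hybO]
  · -- the bad case leads to a contradiction through a discrete valuation ring
    push Not at hgood
    exfalso
    choose bw hbw1 hbw2 using hgood
    have hβne : ∀ w, β w (bw w) ≠ 0 := fun w h0 => hbw2 w (h0 ▸ AΩ.zero_mem)
    let tw : ↥WΩ.left → ↥L := fun w => ⟨(β w (bw w))⁻¹, L.inv_mem (hLβ w _)⟩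
    have htw : ∀ w, R_L.valuation (tw w) < 1 := by
      intro w
      apply val_lt_one_of_inv_not_mem
      intro hmem
      apply hbw2 w
      have h1 : ((tw w)⁻¹ : ↥L) = ⟨β w (bw w), hLβ w _⟩ := by
        apply Subtype.ext
        show ((β w (bw w))⁻¹)⁻¹ = _
        rw [inv_inv]
      rw [h1] at hmem
      exact hmem
    obtain ⟨w₁, -⟩ := hds.surj (closedPoint (OmegaOf sq))
    let T : Finset ↥L := Finset.univ.image tw
    have hT : ∀ t ∈ T, R_L.valuation t < 1 := by
      intro t ht
      obtain ⟨w, -, rfl⟩ := Finset.mem_image.1 ht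
      exact htw w
    have ht₀0 : tw w₁ ≠ 0 := by
      intro h0
      have h1 : (β w₁ (bw w₁))⁻¹ = 0 := congrArg Subtype.val h0
      exact inv_ne_zero (hβne w₁) h1
    obtain ⟨R', hR'dvr, hR'g, -, -, hR'T⟩ :=
      Groth.Agent.Lib.Helper9.ValCritDVR.exists_dvr_refine g R_L hg T hT (tw w₁)
        (Finset.mem_image_of_mem _ (Finset.mem_univ _)) ht₀0 S_L hS
    -- (11) the square over the discrete valuation ring
    let γ' : C →+* ↥R' := g.codRestrict R' hR'g
    have hγ'alg : (algebraMap ↥R' ↥L).comp γ' = τL.comp φU := RingHom.ext fun c => rfl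
    let strR' : Spec (CommRingCat.of ↥R') ⟶ S := Spec.map (CommRingCat.ofHom γ') ≫ sC
    have hτLw : Spec.map (CommRingCat.ofHom τL) ≫ U''.hom =
        Spec.map (CommRingCat.ofHom (algebraMap ↥R' ↥L)) ≫ strR' := by
      show Spec.map (CommRingCat.ofHom τL) ≫ Spec.map (CommRingCat.ofHom φU) ≫ sC =
        Spec.map (CommRingCat.ofHom (algebraMap ↥R' ↥L)) ≫ Spec.map (CommRingCat.ofHom γ') ≫ sC
      rw [← Category.assoc, ← Category.assoc, ← specMap_ofHom_comp, ← specMap_ofHom_comp, hγ'alg]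
    let ptKR : Over S := Over.mk (Spec.map (CommRingCat.ofHom (algebraMap ↥R' ↥L)) ≫ strR')
    let ptAR : Over S := Over.mk strR'
    let τLO : ptKR ⟶ U'' := Over.homMk (Spec.map (CommRingCat.ofHom τL)) hτLw
    let γ'O : ptAR ⟶ V₀ := Over.homMk (Spec.map (CommRingCat.ofHom γ')) rfl
    let jR : ptKR ⟶ ptAR := Over.homMk (Spec.map (CommRingCat.ofHom (algebraMap ↥R' ↥L))) rfl
    have hOvR : τLO ≫ fU = jR ≫ γ'O := by
      apply Over.OverMorphism.ext
      show Spec.map (CommRingCat.ofHom τL) ≫ Spec.map (CommRingCat.ofHom φU) =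
        Spec.map (CommRingCat.ofHom (algebraMap ↥R' ↥L)) ≫ Spec.map (CommRingCat.ofHom γ')
      rw [← specMap_ofHom_comp, ← specMap_ofHom_comp, hγ'alg]
    have commR : (yon S).map τLO ≫ h'' ≫ f = (yon S).map jR ≫ (yon S).map γ'O := by
      rw [hh''f', ← Functor.map_comp, ← Functor.map_comp, hOvR]
    let sq' : ValSq (h'' ≫ f) :=
      { A := ↥R', K := ↥L, str := strR', top := (yon S).map τLO, bot := (yon S).map γ'O,
        comm := commR }
    obtain ⟨l', hl'1, hl'2⟩ := Hdvr sq' hR'dvr
    have hl'1' : (yon S).map jR ≫ l' = (yon S).map τLO ≫ h'' := hl'1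
    have hl'2' : l' ≫ f = (yon S).map γ'O := hl'2
    -- (12) lifting to the chart
    obtain ⟨cW', hcW'⟩ := (yon S).map_surjective (hrep.fst l')
    let W' : Over S := hrep.pullback l'
    let dW' : W' ⟶ ptAR := hrep.snd l'
    have sqW' : IsPullback ((yon S).map cW') ((yon S).map dW') c₀ l' := by
      rw [hcW']; exact hrep.isPullback l'
    let dd' : W'.left ⟶ Spec (CommRingCat.of ↥R') := dW'.left
    let cc' : W'.left ⟶ Spec (CommRingCat.of B) := cW'.left
    haveI hde' : Etale dd' := hce.property l' _ _ (hrep.isPullback l')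
    haveI hds' : Surjective dd' := hcs.property l' _ _ (hrep.isPullback l')
    obtain ⟨w₀, hw₀⟩ := hds'.surj (closedPoint ↥R')
    let ηR : ↥(Spec (CommRingCat.of ↥R')) :=
      (Spec.map (CommRingCat.ofHom (algebraMap ↥R' ↥L))) (closedPoint ↥L)
    have hspec : ηR ⤳ dd' w₀ := by
      rw [hw₀]; exact IsLocalRing.specializes_closedPoint ηR
    obtain ⟨wη, hwη1, hwη2⟩ := (Flat.generalizingMap dd') hspec
    let φ₀ : W'.left.presheaf.stalk w₀ ⟶ W'.left.residueField wη :=
      W'.left.presheaf.stalkSpecializes hwη1 ≫ W'.left.residue wη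
    obtain ⟨A'', hA''mem, hA''loc⟩ := IsLocalRing.exists_factor_valuationRing φ₀.hom
    let toA : W'.left.presheaf.stalk w₀ ⟶ CommRingCat.of ↥A'' :=
      CommRingCat.ofHom (φ₀.hom.codRestrict _ hA''mem)
    let i₂ : Spec (CommRingCat.of ↥A'') ⟶ W'.left := Spec.map toA ≫ W'.left.fromSpecStalk w₀
    have hi : Spec.map (CommRingCat.ofHom A''.subtype) ≫ i₂ =
        W'.left.fromSpecResidueField wη := by
      have h1 : toA ≫ CommRingCat.ofHom A''.subtype = φ₀ := by
        ext x; rfl
      show Spec.map (CommRingCat.ofHom A''.subtype) ≫ Spec.map toA ≫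
        W'.left.fromSpecStalk w₀ = Spec.map (W'.left.residue wη) ≫ W'.left.fromSpecStalk wη
      rw [← Category.assoc, ← Spec.map_comp, h1]
      show Spec.map (W'.left.presheaf.stalkSpecializes hwη1 ≫ W'.left.residue wη) ≫ _ = _
      rw [Spec.map_comp, Category.assoc, Scheme.SpecMap_stalkSpecializes_fromSpecStalk]
    have hi₂cl : i₂ (closedPoint ↥A'') = w₀ := by
      show (W'.left.fromSpecStalk w₀) ((Spec.map toA) (closedPoint ↥A'')) = w₀
      have h5 : (Spec.map toA) (closedPoint ↥A'') = closedPoint (W'.left.presheaf.stalk w₀) :=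
        comap_closedPoint (S := ↥A'') (φ₀.hom.codRestrict A''.toSubring hA''mem)
      rw [h5, Scheme.fromSpecStalk_closedPoint]
    clear_value i₂
    let ρ'' : B →+* ↥A'' := (Spec.preimage (i₂ ≫ cc')).hom
    have hρ'' : Spec.map (CommRingCat.ofHom ρ'') = i₂ ≫ cc' := Spec.map_preimage _
    let δ : ↥R' →+* ↥A'' := (Spec.preimage (i₂ ≫ dd')).hom
    have hδ : Spec.map (CommRingCat.ofHom δ) = i₂ ≫ dd' := Spec.map_preimage _
    have hδloc : IsLocalHom δ := by
      rw [isLocalHom_iff_comap_closedPoint]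
      have h1 : (Spec.map (CommRingCat.ofHom δ)) (closedPoint ↥A'') = closedPoint ↥R' := by
        rw [hδ, Scheme.Hom.comp_apply, hi₂cl]
        exact hw₀
      exact h1
    let r'' : ↥R' →+* W'.left.residueField wη := A''.subtype.comp δ
    have hr'' : Spec.map (CommRingCat.ofHom r'') = W'.left.fromSpecResidueField wη ≫ dd' := by
      show Spec.map (CommRingCat.ofHom (A''.subtype.comp δ)) = _
      rw [specMap_ofHom_comp, hδ, ← Category.assoc, hi]
    have hr''inj : Function.Injective r'' := by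
      rw [RingHom.injective_iff_ker_eq_bot, RingHom.ker_eq_comap_bot]
      have hpt : (Spec.map (CommRingCat.ofHom r'')) (closedPoint (W'.left.residueField wη)) =
          ηR := by
        rw [hr'', Scheme.Hom.comp_apply, Scheme.fromSpecResidueField_apply]
        exact hwη2
      have h2 := congrArg PrimeSpectrum.asIdeal hpt
      change Ideal.comap r'' (maximalIdeal (W'.left.residueField wη)) =
        Ideal.comap (algebraMap ↥R' ↥L) (maximalIdeal ↥L) at h2
      rw [IsLocalRing.maximalIdeal_eq_bot, IsLocalRing.maximalIdeal_eq_bot] at h2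
      rw [h2, ← RingHom.ker_eq_comap_bot]
      exact (RingHom.injective_iff_ker_eq_bot _).1 (IsFractionRing.injective ↥R' ↥L)
    let ψ'' : ↥L →+* W'.left.residueField wη :=
      IsFractionRing.lift (A := ↥R') (K := ↥L) hr''inj
    have hψ''alg : ∀ x : ↥R', ψ'' (algebraMap ↥R' ↥L x) =
        ((δ x : ↥A'') : W'.left.residueField wη) :=
      fun x => IsFractionRing.lift_algebraMap hr''inj x
    have hψ''comp : ψ''.comp (algebraMap ↥R' ↥L) = r'' := RingHom.ext fun x => hψ''alg x
    have hψ''sp : Spec.map (CommRingCat.ofHom ψ'') ≫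
        Spec.map (CommRingCat.ofHom (algebraMap ↥R' ↥L)) =
        W'.left.fromSpecResidueField wη ≫ dd' := by
      rw [← specMap_ofHom_comp, hψ''comp, hr'']
    -- (14) the residue field extension is algebraic
    haveI : LocallyQuasiFinite dd' := locallyQuasiFinite_of_etale_mor dd'
    have hq1 : LocallyQuasiFinite (Spec.map (CommRingCat.ofHom ψ'') ≫
        Spec.map (CommRingCat.ofHom (algebraMap ↥R' ↥L))) := by
      rw [hψ''sp]; infer_instance
    have hq2 : LocallyQuasiFinite (Spec.map (CommRingCat.ofHom ψ'')) :=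
      LocallyQuasiFinite.of_comp _ (Spec.map (CommRingCat.ofHom (algebraMap ↥R' ↥L)))
    rw [HasRingHomProperty.Spec_iff (P := @LocallyQuasiFinite)] at hq2
    letI algκ : Algebra ↥L (W'.left.residueField wη) := ψ''.toAlgebra
    haveI : Algebra.QuasiFinite ↥L (W'.left.residueField wη) := hq2
    haveI : Module.Finite ↥L (W'.left.residueField wη) := Module.Finite.of_quasiFinite
    haveI : Algebra.IsAlgebraic ↥L (W'.left.residueField wη) := Algebra.IsAlgebraic.of_finite _ _
    -- (15) an embedding into the algebraic closure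
    let εA : W'.left.residueField wη →ₐ[↥L] OmegaOf sq := IsAlgClosed.lift
    let ε'' : W'.left.residueField wη →+* OmegaOf sq := εA.toRingHom
    have hε'' : ∀ x : ↥L, ε'' (ψ'' x) = (x : OmegaOf sq) := fun x => εA.commutes x
    -- (16) the geometric point of the chart and the corresponding section
    let β'' : B →+* OmegaOf sq := ε''.comp (A''.subtype.comp ρ'')
    have hO3 : cW' ≫ fB = dW' ≫ γ'O := (yon S).map_injective (by
      rw [Functor.map_comp, Functor.map_comp, ← hc₀f', ← Category.assoc, sqW'.w, Category.assoc,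
        hl'2'])
    have hO3' : cc' ≫ Spec.map (CommRingCat.ofHom φB) =
        dd' ≫ Spec.map (CommRingCat.ofHom γ') := congrArg (fun m => m.left) hO3
    have hρ''C : ρ''.comp φB = δ.comp γ' := by
      have h1 : Spec.map (CommRingCat.ofHom (ρ''.comp φB)) =
          Spec.map (CommRingCat.ofHom (δ.comp γ')) := by
        rw [specMap_ofHom_comp, specMap_ofHom_comp, hρ'', hδ, Category.assoc, Category.assoc, hO3']
      exact congrArg CommRingCat.Hom.hom (Spec.map_injective h1)
    have hβ''C : β''.comp φB = g₀ := by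
      refine RingHom.ext fun c => ?_
      show ε'' (((ρ'' (φB c) : ↥A'') : W'.left.residueField wη)) = g₀ c
      have h1 : ρ'' (φB c) = δ (γ' c) := RingHom.congr_fun hρ''C c
      rw [h1, ← hψ''alg, hε'']
      rfl
    have hg₀str : Spec.map (CommRingCat.ofHom g₀) ≫ sC = e.ptK'.hom := by
      show Spec.map (CommRingCat.ofHom ((ιΩ.comp τ).comp φU)) ≫ sC =
        Spec.map (CommRingCat.ofHom (algebraMap ↥AΩ (OmegaOf sq))) ≫
          Spec.map (CommRingCat.ofHom φΩ) ≫ sq.str
      rw [hg₀eq, ← hyw, ← hγ, ← Category.assoc, ← Category.assoc, ← specMap_ofHom_comp,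
        ← specMap_ofHom_comp, hcommΩ]
    have hβ''w : Spec.map (CommRingCat.ofHom β'') ≫ X'.hom = e.ptK'.hom := by
      rw [← hg₀str, ← hβ''C]
      show Spec.map (CommRingCat.ofHom β'') ≫ Spec.map (CommRingCat.ofHom φB) ≫ sC = _
      rw [← Category.assoc, ← specMap_ofHom_comp]
    let p''O : e.ptK' ⟶ X' := Over.homMk (Spec.map (CommRingCat.ofHom β'')) hβ''w
    let ptκ : Over S := Over.mk (W'.left.fromSpecResidueField wη ≫ W'.hom)
    let rO : ptκ ⟶ W' := Over.homMk (W'.left.fromSpecResidueField wη) rfl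
    have hW'hom : W'.hom = dd' ≫ Spec.map (CommRingCat.ofHom γ') ≫ sC := (Over.w dW').symm
    have hψ''spr : ∀ {Z : Scheme.{u}} (k : Spec (CommRingCat.of ↥R') ⟶ Z),
        W'.left.fromSpecResidueField wη ≫ dd' ≫ k = Spec.map (CommRingCat.ofHom ψ'') ≫
          Spec.map (CommRingCat.ofHom (algebraMap ↥R' ↥L)) ≫ k := fun k => by
      rw [← Category.assoc, ← hψ''sp, Category.assoc]
    have hε4 : ε''.comp (ψ''.comp ((algebraMap ↥R' ↥L).comp γ')) = g₀ := by
      refine RingHom.ext fun c => ?_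
      show ε'' (ψ'' (algebraMap ↥R' ↥L (γ' c))) = g₀ c
      rw [hε'']
      rfl
    have hε5 : Spec.map (CommRingCat.ofHom ε'') ≫ Spec.map (CommRingCat.ofHom ψ'') ≫
        Spec.map (CommRingCat.ofHom (algebraMap ↥R' ↥L)) ≫ Spec.map (CommRingCat.ofHom γ') =
        Spec.map (CommRingCat.ofHom g₀) := by
      rw [← specMap_ofHom_comp, ← specMap_ofHom_comp, ← specMap_ofHom_comp, hε4]
    have hεw : Spec.map (CommRingCat.ofHom ε'') ≫ ptκ.hom = e.ptK'.hom := by
      show Spec.map (CommRingCat.ofHom ε'') ≫ W'.left.fromSpecResidueField wη ≫ W'.hom = _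
      rw [hW'hom, hψ''spr, ← hg₀str, ← hε5]
      simp only [Category.assoc]
    let εO : e.ptK' ⟶ ptκ := Over.homMk (Spec.map (CommRingCat.ofHom ε'')) hεw
    have hOv4 : p''O = εO ≫ rO ≫ cW' := by
      apply Over.OverMorphism.ext
      show Spec.map (CommRingCat.ofHom β'') = Spec.map (CommRingCat.ofHom ε'') ≫
        W'.left.fromSpecResidueField wη ≫ cc'
      rw [← hi, Category.assoc, ← hρ'', ← specMap_ofHom_comp, ← specMap_ofHom_comp]
    have hlamw : Spec.map (CommRingCat.ofHom L.subtype) ≫ ptKR.hom = e.ptK'.hom := by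
      show Spec.map (CommRingCat.ofHom L.subtype) ≫
        Spec.map (CommRingCat.ofHom (algebraMap ↥R' ↥L)) ≫ Spec.map (CommRingCat.ofHom γ') ≫ sC = _
      rw [← hg₀str, ← Category.assoc, ← Category.assoc, ← specMap_ofHom_comp,
        ← specMap_ofHom_comp]
      exact congrArg (fun r => Spec.map (CommRingCat.ofHom r) ≫ sC) (RingHom.ext fun c => rfl)
    let lamO : e.ptK' ⟶ ptKR := Over.homMk (Spec.map (CommRingCat.ofHom L.subtype)) hlamw
    have hεψ : ε''.comp ψ'' = L.subtype := RingHom.ext fun x => hε'' x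
    have hOv5 : εO ≫ rO ≫ dW' = lamO ≫ jR := by
      apply Over.OverMorphism.ext
      show Spec.map (CommRingCat.ofHom ε'') ≫ W'.left.fromSpecResidueField wη ≫ dd' =
        Spec.map (CommRingCat.ofHom L.subtype) ≫ Spec.map (CommRingCat.ofHom (algebraMap ↥R' ↥L))
      rw [← hψ''sp, ← Category.assoc, ← specMap_ofHom_comp, hεψ]
    have hOv6 : lamO ≫ τLO = ψO ≫ tO := by
      apply Over.OverMorphism.ext
      show Spec.map (CommRingCat.ofHom L.subtype) ≫ Spec.map (CommRingCat.ofHom τL) =
        Spec.map (CommRingCat.ofHom ιΩ) ≫ tl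
      rw [← hτ, ← specMap_ofHom_comp, ← specMap_ofHom_comp]
      exact congrArg (fun r => Spec.map (CommRingCat.ofHom r)) (RingHom.ext fun x => rfl)
    have hp''x : (yon S).map p''O ≫ c₀ = xΩ := by
      have e1 : (yon S).map p''O ≫ c₀ = (yon S).map (εO ≫ rO ≫ dW') ≫ l' := by
        rw [hOv4]
        simp only [Functor.map_comp, Category.assoc]
        rw [sqW'.w]
      have e2 : (yon S).map (lamO ≫ jR) ≫ l' = (yon S).map (lamO ≫ τLO) ≫ h'' := by
        simp only [Functor.map_comp, Category.assoc]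
        rw [hl'1']
      rw [e1, hOv5, e2, hOv6]
      simp only [Functor.map_comp, Category.assoc]
      rw [htO, ht]
    let s''Y : (yon S).obj e.ptK' ⟶ (yon S).obj WΩ :=
      sqW.lift ((yon S).map p''O) (𝟙 _) (by rw [Category.id_comp]; exact hp''x)
    obtain ⟨s''O, hs''O⟩ := (yon S).map_surjective s''Y
    have hs1 : s''O ≫ cW = p''O := (yon S).map_injective (by
      rw [Functor.map_comp, hs''O]; exact sqW.lift_fst _ _ _)
    have hs2 : s''O ≫ dW = 𝟙 _ := (yon S).map_injective (by
      rw [Functor.map_comp, hs''O, CategoryTheory.Functor.map_id]; exact sqW.lift_snd _ _ _)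
    let sl : Spec (CommRingCat.of (OmegaOf sq)) ⟶ WΩ.left := s''O.left
    have hs2' : sl ≫ dd = 𝟙 _ := congrArg (fun m => m.left) hs2
    have hs1' : sl ≫ cc = Spec.map (CommRingCat.ofHom β'') := congrArg (fun m => m.left) hs1
    have hsecu : sl = sW (sl (closedPoint (OmegaOf sq))) :=
      section_unique dd sl (sW (sl (closedPoint (OmegaOf sq)))) hs2'
        (hsW1 _) (hsW2 _).symm
    have hββ : β (sl (closedPoint (OmegaOf sq))) = β'' := by
      have h1 : Spec.map (CommRingCat.ofHom (β (sl (closedPoint (OmegaOf sq))))) =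
          Spec.map (CommRingCat.ofHom β'') := by
        rw [hβ, ← hsecu, hs1']
      exact congrArg CommRingCat.Hom.hom (Spec.map_injective h1)
    -- (17) the contradiction
    have hval := hR'T (tw (sl (closedPoint (OmegaOf sq))))
      (Finset.mem_image_of_mem _ (Finset.mem_univ _))
    have htR : tw (sl (closedPoint (OmegaOf sq))) ∈ R' := (R'.valuation_le_one_iff _).1 hval.le
    have htm : (⟨tw (sl (closedPoint (OmegaOf sq))), htR⟩ : ↥R') ∈ maximalIdeal ↥R' :=
      (R'.valuation_lt_one_iff ⟨_, htR⟩).2 hval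
    have hunit : IsUnit (δ ⟨tw (sl (closedPoint (OmegaOf sq))), htR⟩) := by
      refine isUnit_iff_exists_inv.2 ⟨ρ'' (bw (sl (closedPoint (OmegaOf sq)))), ?_⟩
      apply Subtype.ext
      apply ε''.injective
      show ε'' (((δ ⟨tw (sl (closedPoint (OmegaOf sq))), htR⟩ : ↥A'') :
          W'.left.residueField wη) *
        ((ρ'' (bw (sl (closedPoint (OmegaOf sq)))) : ↥A'') : W'.left.residueField wη)) = ε'' 1
      rw [map_mul, map_one, ← hψ''alg, hε'']
      show (β (sl (closedPoint (OmegaOf sq))) (bw (sl (closedPoint (OmegaOf sq)))))⁻¹ *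
        β'' (bw (sl (closedPoint (OmegaOf sq)))) = 1
      rw [← hββ, inv_mul_cancel₀ (hβne _)]
    exact (mem_maximalIdeal _).1 htm (hδloc.map_nonunit _ hunit)

end Groth.Agent.Helper2.RefVC
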