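import Mathlib
import Groth.Agent.Lib.Helper2.RefVC.Transport
import Groth.Agent.Lib.Helper2.RefVC.ValOfDvr
import Groth.Agent.Lib.Helper2.AlgSp.Mor
import Groth.Agent.Lib.Helper2.AlgSp.Mor2
import Groth.Agent.Lib.Helper2.AlgSp.Points
import Groth.Agent.Lib.Helper2.AlgSp.PointsMor
import Groth.Agent.Lib.Helper9.ValCritAff

/-!
# The refined valuative criterion with discrete valuation rings (helper2)

Reductions: base change of the hypotheses along an étale chart of the (locally Noetherian)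
target, localisation to an affine Noetherian base, and the assembly of
`hasLiftExt_of_refined` with `hasLiftExt_of_dvr`.
-/

set_option autoImplicit false
set_option backward.isDefEq.respectTransparency.types false
set_option synthInstance.maxHeartbeats 400000
set_option maxHeartbeats 4000000
set_option linter.style.haveILetI false
set_option linter.unusedSectionVars false
set_option linter.unusedVariables false
set_option linter.unusedSimpArgs false
set_option linter.unnecessarySimpa false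

universe u

open IsLocalRing CategoryTheory CategoryTheory.Limits AlgebraicGeometry Opposite AlgSp
  TopologicalSpace

namespace Groth.Agent.Helper2.RefVC

open Groth.Agent.Helper2.AlgSpBasic

variable {S : Scheme.{u}}

/-- The hypotheses of the refined valuative criterion with discrete valuation rings. -/
structure RefHyp {U X Y : Sp S} (f : X ⟶ Y) (h : U ⟶ X) : Prop where
  sep : IsSeparatedMor f
  ft : IsFiniteTypeMor f
  hft : IsFiniteTypeMor h
  dense : DenseRange (Points.map h)
  val : ∀ sq : ValSq (h ≫ f), IsDiscreteValuationRing sq.A →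
    ∃ l : (yon S).obj sq.ptA ⟶ X, (yon S).map sq.j ≫ l = sq.top ≫ h ∧ l ≫ f = sq.bot

/-- The hypotheses are stable under étale base change of the target. -/
theorem RefHyp.baseChange {U X Y : Sp S} (hU : IsAlgSpace U) (hX : IsAlgSpace X)
    (hY : IsAlgSpace Y) {f : X ⟶ Y} {h : U ⟶ X} (H : RefHyp f h) {Z : Over S}
    (g : (yon S).obj Z ⟶ Y) (hge : RepWith @Etale g) :
    IsAlgSpace (pullback f g) ∧ IsAlgSpace (pullback h (pullback.fst f g)) ∧
      RefHyp (pullback.snd f g) (pullback.snd h (pullback.fst f g)) := by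
  have sqP : IsPullback (pullback.fst f g) (pullback.snd f g) f g := IsPullback.of_hasPullback f g
  have hZ : IsAlgSpace ((yon S).obj Z) := IsAlgSpace.yon_obj Z
  have hP : IsAlgSpace (pullback f g) := isAlgSpace_of_isPullback hY.diag hX hZ f g _ _ sqP
  have sqU : IsPullback (pullback.fst h (pullback.fst f g)) (pullback.snd h (pullback.fst f g))
      h (pullback.fst f g) := IsPullback.of_hasPullback h (pullback.fst f g)
  have hUP : IsAlgSpace (pullback h (pullback.fst f g)) :=
    isAlgSpace_of_isPullback hX.diag hU hP h (pullback.fst f g) _ _ sqU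
  refine ⟨hP, hUP, ?_⟩
  have hfstE : RepWith @Etale (pullback.fst f g) := repWith_of_isPullback @Etale sqP.flip hge
  have hopen : IsOpenMap (Points.map (pullback.fst f g)) :=
    isOpenMap_points_of_isEtaleMor hP (pullback.fst f g)
      (fun U φ hφ => repWith_comp @Etale hφ hfstE)
  have e1 : pullback.fst h (pullback.fst f g) ≫ h ≫ f =
      pullback.snd h (pullback.fst f g) ≫ pullback.snd f g ≫ g := by
    rw [← Category.assoc, sqU.w, Category.assoc, sqP.w]
  constructor
  · exact repWith_diagonal_of_isPullback @IsClosedImmersion sqP H.sep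
  · exact ⟨locP_of_isPullback @LocallyOfFiniteType hX hY hZ hP f g _ _ sqP H.ft.1,
      isQuasiCompactMor_of_isPullback sqP H.ft.2⟩
  · exact ⟨locP_of_isPullback @LocallyOfFiniteType hU hX hP hUP h (pullback.fst f g) _ _ sqU
      H.hft.1, isQuasiCompactMor_of_isPullback sqU H.hft.2⟩
  · have hd2 : Dense ((Points.map (pullback.fst f g)) ⁻¹' (Set.range (Points.map h))) :=
      Dense.preimage H.dense hopen
    refine hd2.mono ?_
    rintro z ⟨x, hx⟩
    obtain ⟨q, hq1, hq2⟩ := points_exists_of_isPullback (pullback.fst f g) h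
      (pullback.fst h (pullback.fst f g)) (pullback.snd h (pullback.fst f g)) sqU x z hx
    exact ⟨q, hq2⟩
  · intro sq' hdvr
    have hc : sq'.top ≫ pullback.snd h (pullback.fst f g) ≫ pullback.snd f g =
        (yon S).map sq'.j ≫ sq'.bot := sq'.comm
    have hcomm : (sq'.top ≫ pullback.fst h (pullback.fst f g)) ≫ h ≫ f =
        (yon S).map sq'.j ≫ sq'.bot ≫ g := by
      rw [Category.assoc, e1, ← Category.assoc (pullback.snd h (pullback.fst f g)),
        ← Category.assoc sq'.top, hc, Category.assoc]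
    obtain ⟨l, hl1, hl2⟩ := H.val
      { A := sq'.A, K := sq'.K, str := sq'.str,
        top := sq'.top ≫ pullback.fst h (pullback.fst f g), bot := sq'.bot ≫ g,
        comm := hcomm } hdvr
    have hl1' : (yon S).map sq'.j ≫ l = (sq'.top ≫ pullback.fst h (pullback.fst f g)) ≫ h := hl1
    have hl2' : l ≫ f = sq'.bot ≫ g := hl2
    refine ⟨sqP.lift l sq'.bot hl2', ?_, sqP.lift_snd _ _ _⟩
    apply sqP.hom_ext
    · rw [Category.assoc, sqP.lift_fst, hl1', Category.assoc, Category.assoc, sqU.w]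
    · rw [Category.assoc, sqP.lift_snd, Category.assoc, hc]

/-- The existence part of the valuative criterion is local on the base: it suffices to lift the
squares after a base change through which the bottom arrow factors. -/
theorem hasLiftExt_of_isPullback_base {X Y Z P : Sp S} (f : X ⟶ Y) (g : Z ⟶ Y) (fst : P ⟶ X)
    (snd : P ⟶ Z) (sqP : IsPullback fst snd f g) (sq : ValSq f)
    (b : (yon S).obj sq.ptA ⟶ Z) (hb : b ≫ g = sq.bot) (hE : ExistVC snd) : sq.HasLiftExt := by
  have hw : sq.top ≫ f = ((yon S).map sq.j ≫ b) ≫ g := by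
    rw [Category.assoc, hb]; exact sq.comm
  obtain ⟨e, l, hl1, hl2⟩ := hE
    { A := sq.A, K := sq.K, str := sq.str,
      top := sqP.lift sq.top ((yon S).map sq.j ≫ b) hw, bot := b,
      comm := sqP.lift_snd _ _ _ }
  refine ⟨{ A' := e.A', K' := e.K', φ := e.φ, ψ := e.ψ, comm := e.comm,
             isLocalHom := e.isLocalHom }, l ≫ fst, ?_, ?_⟩
  · have h1 := congrArg (fun m => m ≫ fst) hl1
    simp only [Category.assoc, IsPullback.lift_fst] at h1
    exact h1
  · have h2 := congrArg (fun m => m ≫ g) hl2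
    simp only [Category.assoc, hb] at h2
    rw [Category.assoc, sqP.w]
    exact h2

/-- An affine scheme over an affine base, in the form of the spectrum of a ring map. -/
theorem exists_spec_form {C : Type u} [CommRing C] (sC : Spec (CommRingCat.of C) ⟶ S)
    (T : Over S) [IsAffine T.left] (fT : T ⟶ Over.mk sC) :
    ∃ (B : Type u) (_ : CommRing B) (φB : C →+* B)
      (e : Over.mk (Spec.map (CommRingCat.ofHom φB) ≫ sC) ≅ T),
      e.hom ≫ fT = (Over.homMk (Spec.map (CommRingCat.ofHom φB)) rfl :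
        Over.mk (Spec.map (CommRingCat.ofHom φB) ≫ sC) ⟶ Over.mk sC) ∧
      (LocallyOfFiniteType fT.left → φB.FiniteType) := by
  obtain ⟨φ, hφ⟩ : ∃ φ : CommRingCat.of C ⟶ Γ(T.left, ⊤),
      Spec.map φ = T.left.isoSpec.inv ≫ fT.left := ⟨Spec.preimage _, Spec.map_preimage _⟩
  have hφ' : Spec.map (CommRingCat.ofHom φ.hom) = T.left.isoSpec.inv ≫ fT.left := hφ
  have hw : T.left.isoSpec.symm.hom ≫ T.hom = Spec.map (CommRingCat.ofHom φ.hom) ≫ sC := by
    rw [hφ', Category.assoc]
    congr 1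
    exact (Over.w fT).symm
  refine ⟨↑Γ(T.left, ⊤), inferInstance, φ.hom,
    Over.isoMk (f := Over.mk (Spec.map (CommRingCat.ofHom φ.hom) ≫ sC)) (g := T)
      T.left.isoSpec.symm hw, ?_, ?_⟩
  · apply Over.OverMorphism.ext
    rw [Over.comp_left]
    exact hφ'.symm
  · intro hl
    haveI := hl
    have h1 : LocallyOfFiniteType (Spec.map (CommRingCat.ofHom φ.hom)) := by
      rw [hφ']; infer_instance
    exact (HasRingHomProperty.Spec_iff (P := @LocallyOfFiniteType)).1 h1

/-- An affine chart of the base change of a finite type morphism with dense image to a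
quasi-compact étale surjective chart of the target. -/
theorem exists_dense_chart_aff {U X : Sp S} (hU : IsAlgSpace U) (hX : IsAlgSpace X) (h : U ⟶ X)
    (hh : IsFiniteTypeMor h) (hdense : DenseRange (Points.map h))
    {W : Over S} (c₀ : (yon S).obj W ⟶ X) (hce : RepWith @Etale c₀)
    (hcs : RepWith @Surjective c₀) [CompactSpace ↥W.left] :
    ∃ (U' : Over S) (h' : U' ⟶ W) (pU : (yon S).obj U' ⟶ U),
      IsAffine U'.left ∧ pU ≫ h = (yon S).map h' ≫ c₀ ∧ LocallyOfFiniteType h'.left ∧
        DenseRange (Points.map (pU ≫ h)) := by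
  have sqP := IsPullback.of_hasPullback h c₀
  have hP : IsAlgSpace (pullback h c₀) :=
    isAlgSpace_of_isPullback hX.diag hU (IsAlgSpace.yon_obj W) h c₀ _ _ sqP
  have hWqc : IsQuasiCompactSp ((yon S).obj W) := (isQuasiCompactSp_yon_iff W).mpr inferInstance
  have hPqc : IsQuasiCompactSp (pullback h c₀) :=
    hh.2 (IsAlgSpace.yon_obj W) hWqc c₀ (pullback.fst h c₀) (pullback.snd h c₀) sqP
  obtain ⟨U', p'', hU'aff, hpe, hps⟩ := (isQuasiCompactSp_iff_exists_affine_chart hP).mp hPqc
  obtain ⟨h', hh'⟩ := (yon S).map_surjective (p'' ≫ pullback.snd h c₀)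
  refine ⟨U', h', p'' ≫ pullback.fst h c₀, hU'aff, ?_, ?_, ?_⟩
  · rw [Category.assoc, pullback.condition, hh', Category.assoc]
  · have hl : LocP @LocallyOfFiniteType (pullback.snd h c₀) :=
      locP_of_isPullback @LocallyOfFiniteType hU hX (IsAlgSpace.yon_obj W) hP
        h c₀ (pullback.fst _ _) (pullback.snd _ _) sqP hh.1
    exact hl p'' (𝟙 _) h' hpe (repWith_of_isIso @Etale (𝟙 _))
      (by rw [hh', Category.comp_id])
  · have hd : Dense (Set.range (Points.map h)) := hdense
    refine hd.mono ?_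
    rintro _ ⟨x, rfl⟩
    obtain ⟨z, hz⟩ := isSurjectiveMor_of_repWith_surjective c₀ hcs (Points.map h x)
    obtain ⟨q, hq1, hq2⟩ := points_exists_of_isPullback c₀ h (pullback.fst h c₀)
      (pullback.snd h c₀) sqP x z hz.symm
    obtain ⟨w, rfl⟩ := isSurjectiveMor_of_repWith_surjective p'' hps q
    refine ⟨w, ?_⟩
    rw [Points.map_comp, Points.map_comp, hq1]

/-- **The affine Noetherian case.** -/
theorem existVC_of_refHyp_affine {U X : Sp S} (hU : IsAlgSpace U) (hX : IsAlgSpace X)
    {C : Type u} [CommRing C] [IsNoetherianRing C] (sC : Spec (CommRingCat.of C) ⟶ S)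
    (f : X ⟶ (yon S).obj (Over.mk sC)) (h : U ⟶ X) (H : RefHyp f h) : ExistVC f := by
  have hV₀ : IsAlgSpace ((yon S).obj (Over.mk sC)) := IsAlgSpace.yon_obj _
  haveI : CompactSpace ↥(Over.mk sC).left :=
    (inferInstance : CompactSpace ↥(Spec (CommRingCat.of C)))
  have hXqc : IsQuasiCompactSp X :=
    H.ft.2 hV₀ ((isQuasiCompactSp_yon_iff _).2 inferInstance) (𝟙 _) (𝟙 X) f
      (IsPullback.id_horiz f)
  obtain ⟨T, c, hTaff, hce, hcs⟩ := (isQuasiCompactSp_iff_exists_affine_chart hX).mp hXqc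
  haveI := hTaff
  obtain ⟨fT, hfT⟩ := (yon S).map_surjective (c ≫ f)
  have hfTl : LocallyOfFiniteType fT.left :=
    H.ft.1 c (𝟙 _) fT hce (repWith_of_isIso @Etale (𝟙 _)) (by rw [hfT, Category.comp_id])
  obtain ⟨B, instB, φB, eB, heB, hBft⟩ := exists_spec_form sC T fT
  have hφB : φB.FiniteType := hBft hfTl
  -- the chart in spectrum form
  obtain ⟨c₀, hc₀⟩ : ∃ c₀ : (yon S).obj (Over.mk (Spec.map (CommRingCat.ofHom φB) ≫ sC)) ⟶ X,
      c₀ = (yon S).map eB.hom ≫ c := ⟨_, rfl⟩
  have hce₀ : RepWith @Etale c₀ := by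
    rw [hc₀]
    exact repWith_comp @Etale (repWith_of_isIso @Etale _) hce
  have hcs₀ : RepWith @Surjective c₀ := by
    rw [hc₀]
    exact repWith_comp @Surjective (repWith_of_isIso @Surjective _) hcs
  have hc₀f : c₀ ≫ f = (yon S).map (Over.homMk (Spec.map (CommRingCat.ofHom φB)) rfl :
      Over.mk (Spec.map (CommRingCat.ofHom φB) ≫ sC) ⟶ Over.mk sC) := by
    rw [hc₀, Category.assoc, ← hfT, ← Functor.map_comp, heB]
  -- the dense affine chart
  haveI : CompactSpace ↥(Over.mk (Spec.map (CommRingCat.ofHom φB) ≫ sC)).left :=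
    (inferInstance : CompactSpace ↥(Spec (CommRingCat.of B)))
  obtain ⟨U', h'O, pU, hU'aff, hpU, hh'l, hd'⟩ :=
    exists_dense_chart_aff hU hX h H.hft H.dense c₀ hce₀ hcs₀
  haveI := hU'aff
  have hBl : LocallyOfFiniteType (Spec.map (CommRingCat.ofHom φB)) :=
    (HasRingHomProperty.Spec_iff (P := @LocallyOfFiniteType)).2 hφB
  have hfUl : LocallyOfFiniteType
      (h'O ≫ (Over.homMk (Spec.map (CommRingCat.ofHom φB)) rfl :
        Over.mk (Spec.map (CommRingCat.ofHom φB) ≫ sC) ⟶ Over.mk sC)).left := by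
    haveI := hh'l
    haveI := hBl
    exact (inferInstance : LocallyOfFiniteType (h'O.left ≫ Spec.map (CommRingCat.ofHom φB)))
  obtain ⟨B'', instB'', φU, eU, heU, hUft⟩ := exists_spec_form sC U'
    (h'O ≫ (Over.homMk (Spec.map (CommRingCat.ofHom φB)) rfl :
        Over.mk (Spec.map (CommRingCat.ofHom φB) ≫ sC) ⟶ Over.mk sC))
  have hφU : φU.FiniteType := hUft hfUl
  have hUspec : IsAlgSpace ((yon S).obj (Over.mk (Spec.map (CommRingCat.ofHom φU) ≫ sC))) :=
    IsAlgSpace.yon_obj _
  obtain ⟨h'', hh''⟩ : ∃ h'' : (yon S).obj (Over.mk (Spec.map (CommRingCat.ofHom φU) ≫ sC)) ⟶ X,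
      h'' = (yon S).map eU.hom ≫ pU ≫ h := ⟨_, rfl⟩
  have hh''f : h'' ≫ f = (yon S).map (Over.homMk (Spec.map (CommRingCat.ofHom φU)) rfl :
      Over.mk (Spec.map (CommRingCat.ofHom φU) ≫ sC) ⟶ Over.mk sC) := by
    rw [hh'', Category.assoc, hpU, Category.assoc, hc₀f, ← Functor.map_comp, ← Functor.map_comp,
      heU]
  -- density
  have hd'' : DenseRange (Points.map h'') := by
    have hd0 : Dense (Set.range (Points.map (pU ≫ h))) := hd'
    refine hd0.mono ?_
    rintro _ ⟨w, rfl⟩
    refine ⟨Points.map ((yon S).map eU.inv) w, ?_⟩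
    rw [hh'', ← Points.map_comp, ← Category.assoc, ← Functor.map_comp, eU.inv_hom_id,
      CategoryTheory.Functor.map_id, Category.id_comp]
  -- quasi-compactness
  have hqs : IsQuasiSeparatedMor f :=
    repWith_mono (fun _ _ g (hg : IsClosedImmersion g) => (inferInstance : QuasiCompact g)) H.sep
  have hh''qc : IsQuasiCompactMor h'' := by
    refine isQuasiCompactMor_of_comp_of_isQuasiSeparatedMor hUspec hX hV₀ h'' f ?_ hqs
    rw [hh''f]
    exact isQuasiCompactMor_of_repWith hUspec hV₀.diag _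
      ((repWith_yon_map_iff @QuasiCompact _).2
        (inferInstance : QuasiCompact (Spec.map (CommRingCat.ofHom φU))))
  -- the hypothesis on discrete valuation rings
  have Hdvr : ∀ sq' : ValSq (h'' ≫ f), IsDiscreteValuationRing sq'.A →
      ∃ l : (yon S).obj sq'.ptA ⟶ X, (yon S).map sq'.j ≫ l = sq'.top ≫ h'' ∧
        l ≫ f = sq'.bot := by
    intro sq' hdvr
    have e : (sq'.top ≫ (yon S).map eU.hom ≫ pU) ≫ h ≫ f = sq'.top ≫ h'' ≫ f := by
      have e0 : (sq'.top ≫ (yon S).map eU.hom ≫ pU) ≫ h ≫ f =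
          sq'.top ≫ ((yon S).map eU.hom ≫ pU ≫ h) ≫ f := by simp only [Category.assoc]
      rw [e0, ← hh'']
    have hcomm : (sq'.top ≫ (yon S).map eU.hom ≫ pU) ≫ h ≫ f =
        (yon S).map sq'.j ≫ sq'.bot := e.trans sq'.comm
    obtain ⟨l, hl1, hl2⟩ := H.val
      { A := sq'.A, K := sq'.K, str := sq'.str,
        top := sq'.top ≫ (yon S).map eU.hom ≫ pU, bot := sq'.bot,
        comm := hcomm } hdvr
    have hl1' : (yon S).map sq'.j ≫ l = (sq'.top ≫ (yon S).map eU.hom ≫ pU) ≫ h := hl1
    refine ⟨l, ?_, hl2⟩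
    have e2 : (sq'.top ≫ (yon S).map eU.hom ≫ pU) ≫ h =
        sq'.top ≫ ((yon S).map eU.hom ≫ pU ≫ h) := by simp only [Category.assoc]
    rw [hl1', e2, ← hh'']
  -- uniqueness
  have huniq : UniqVC f :=
    Groth.Agent.S10290.result (X := ⟨X, hX⟩) (Y := ⟨(yon S).obj (Over.mk sC), hV₀⟩)
      (ObjectProperty.homMk f) H.sep
  intro sq
  exact hasLiftExt_of_refined hUspec hX f h'' hh''qc hd'' (fun sq₁ ht => by
    obtain ⟨t, ht⟩ := ht
    exact ⟨huniq sq₁, hasLiftExt_of_dvr hX sC φB hφB φU hφU f hqs c₀ hce₀ hcs₀ hc₀f h'' hh''f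
      Hdvr sq₁ t ht⟩) sq

/-- **The case of a locally Noetherian scheme as base.** -/
theorem existVC_of_refHyp {U X : Sp S} (hU : IsAlgSpace U) (hX : IsAlgSpace X) {V₀ : Over S}
    [IsLocallyNoetherian V₀.left] (f : X ⟶ (yon S).obj V₀) (h : U ⟶ X) (H : RefHyp f h) :
    ExistVC f := by
  intro sq
  obtain ⟨ybO, hybO⟩ := (yon S).map_surjective sq.bot
  obtain ⟨_, ⟨V, hV, rfl⟩, hvV, -⟩ :=
    V₀.left.isBasis_affineOpens.exists_subset_of_mem_open
      (Set.mem_univ (ybO.left (closedPoint sq.A))) isOpen_univ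
  have hV' : IsAffineOpen V := hV
  haveI : IsNoetherianRing ↑Γ(V₀.left, V) := IsLocallyNoetherian.component_noetherian ⟨V, hV⟩
  obtain ⟨a, ha⟩ := Groth.Agent.Lib.Helper9.ValCritAff.factor_affine (CommRingCat.of sq.A)
    ybO.left hV' hvV
  obtain ⟨sC, hsC⟩ : ∃ sC : Spec (CommRingCat.of ↑Γ(V₀.left, V)) ⟶ S,
      sC = hV'.fromSpec ≫ V₀.hom := ⟨_, rfl⟩
  obtain ⟨jZ, hjZ⟩ : ∃ jZ : Over.mk sC ⟶ V₀, jZ.left = hV'.fromSpec :=
    ⟨Over.homMk hV'.fromSpec hsC.symm, rfl⟩
  have hge : RepWith @Etale ((yon S).map jZ) := by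
    rw [repWith_yon_map_iff, hjZ]
    infer_instance
  obtain ⟨hP, hUP, HP⟩ := H.baseChange hU hX (IsAlgSpace.yon_obj V₀) ((yon S).map jZ) hge
  have hE : ExistVC (pullback.snd f ((yon S).map jZ)) :=
    existVC_of_refHyp_affine (C := ↑Γ(V₀.left, V)) hUP hP sC (pullback.snd f ((yon S).map jZ))
      (pullback.snd h (pullback.fst f ((yon S).map jZ))) HP
  have hyw : ybO.left ≫ V₀.hom = sq.str := Over.w ybO
  have hγw : Spec.map a ≫ sC = sq.str := by
    rw [hsC, ← Category.assoc, ← ha, hyw]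
  obtain ⟨γO, hγO⟩ : ∃ γO : sq.ptA ⟶ Over.mk sC, γO.left = Spec.map a :=
    ⟨Over.homMk (Spec.map a) hγw, rfl⟩
  have hγ : γO ≫ jZ = ybO := by
    apply Over.OverMorphism.ext
    rw [Over.comp_left, hγO, hjZ]
    exact ha.symm
  refine hasLiftExt_of_isPullback_base f ((yon S).map jZ) _ _
    (IsPullback.of_hasPullback f ((yon S).map jZ)) sq ((yon S).map γO) ?_ hE
  rw [← Functor.map_comp, hγ, hybO]

/-- **The refined valuative criterion with discrete valuation rings: universal closedness.** -/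
theorem isUnivClosedMor_of_refHyp {U X Y : Sp S} (hU : IsAlgSpace U) (hX : IsAlgSpace X)
    (hY : IsAlgSpace Y) (hYN : IsLocNoethSp Y) (f : X ⟶ Y) (h : U ⟶ X) (H : RefHyp f h) :
    IsUnivClosedMor f := by
  obtain ⟨V₀, p, hpe, hps, hV₀⟩ := hYN
  haveI : IsLocallyNoetherian V₀.left := hV₀
  obtain ⟨hP, hUP, HP⟩ := H.baseChange hU hX hY p hpe
  have sqP : IsPullback (pullback.fst f p) (pullback.snd f p) f p := IsPullback.of_hasPullback f p
  have hE : ExistVC (pullback.snd f p) :=
    existVC_of_refHyp hUP hP (pullback.snd f p) (pullback.snd h (pullback.fst f p)) HP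
  have hucP : IsUnivClosedMor (pullback.snd f p) :=
    isUnivClosedMor_of_existVC hP (IsAlgSpace.yon_obj V₀) (pullback.snd f p) HP.ft.2 hE
  exact isUnivClosedMor_of_etale_cover f p hpe hps (pullback.fst f p) (pullback.snd f p) sqP hucP

end Groth.Agent.Helper2.RefVC
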